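import Cfsg.Agent.ESixDegree.Arith

/-!
# No degree just below `q (q⁶ - q³ + 1)(q⁴ + 1)`

For a prime power `q` neither of the two numbers below `q (q⁶ - q³ + 1)(q⁴ + 1)` divides
`q⁴⁷ (q² - 1)(q⁵ + 1)(q⁶ - 1)(q⁸ - 1)(q⁹ + 1)(q¹² - 1)`.
-/

set_option autoImplicit false

namespace CfsgLib.TwistESixDegree

open ESixDegree (kill gcd_pow_dvd)

/-- A multiple of every possible degree. -/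
def bigN (q : ℕ) : ℕ :=
  q ^ 47 * ((q ^ 2 - 1) * (q ^ 5 + 1) * (q ^ 6 - 1) * (q ^ 8 - 1) * (q ^ 9 + 1) * (q ^ 12 - 1))

/-- The claimed minimal degree, as a polynomial. -/
def tgtZ (x : ℤ) : ℤ := x ^ 11 - x ^ 8 + x ^ 7 + x ^ 5 - x ^ 4 + x

theorem stuff_eq (x : ℤ) : (x ^ 2 - 1) * (x ^ 5 + 1) * (x ^ 6 - 1) * (x ^ 8 - 1) * (x ^ 9 + 1) * (x ^ 12 - 1) =
    (-1 + x) ^ 4 * (1 + x) ^ 6 * (1 + x + x ^ 2) ^ 2 * (1 + x ^ 2) ^ 2 * (1 - x + x ^ 2) ^ 3 * (1 + x ^ 4) ^ 1 * (1 - x + x ^ 2 - x ^ 3 + x ^ 4) ^ 1 * (1 - x ^ 2 + x ^ 4) ^ 1 * (1 - x ^ 3 + x ^ 6) ^ 1 := by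
  ring

theorem bound_1 (x : ℤ) (h : (tgtZ x - 1) ∣
    1 * ((-1 + x) ^ 4 * (1 + x) ^ 6 * (1 + x + x ^ 2) ^ 2 * (1 + x ^ 2) ^ 2 * (1 - x + x ^ 2) ^ 3 * (1 + x ^ 4) ^ 1 * (1 - x + x ^ 2 - x ^ 3 + x ^ 4) ^ 1 * (1 - x ^ 2 + x ^ 4) ^ 1 * (1 - x ^ 3 + x ^ 6) ^ 1)) :
    (-1 + x - x ^ 2 + x ^ 3 - x ^ 4 + x ^ 5 + x ^ 7) ∣ 4353013 := by
  replace h := (Dvd.intro (1 - x ^ 2 + x ^ 4) (by rw [tgtZ]; ring) : (-1 + x - x ^ 2 + x ^ 3 - x ^ 4 + x ^ 5 + x ^ 7) ∣ tgtZ x - 1).trans h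
  replace h := kill (1) (-2 - x - 2 * x ^ 2 - x ^ 3 - 2 * x ^ 4 - x ^ 5 - x ^ 6) (k := -1 + x - x ^ 2 + x ^ 3 - x ^ 4 + x ^ 5 + x ^ 7) (z := -1 + x) (L := 1) (by ring) 4 (1 * (1 + x) ^ 6 * (1 + x + x ^ 2) ^ 2 * (1 + x ^ 2) ^ 2 * (1 - x + x ^ 2) ^ 3 * (1 + x ^ 4) ^ 1 * (1 - x + x ^ 2 - x ^ 3 + x ^ 4) ^ 1 * (1 - x ^ 2 + x ^ 4) ^ 1 * (1 - x ^ 3 + x ^ 6) ^ 1)
    (h.trans (dvd_of_eq (by ring)))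
  replace h := kill (-1) (6 - 5 * x + 4 * x ^ 2 - 3 * x ^ 3 + 2 * x ^ 4 - x ^ 5 + x ^ 6) (k := -1 + x - x ^ 2 + x ^ 3 - x ^ 4 + x ^ 5 + x ^ 7) (z := 1 + x) (L := 7) (by ring) 6 (1 * 1 ^ 4 * (1 + x + x ^ 2) ^ 2 * (1 + x ^ 2) ^ 2 * (1 - x + x ^ 2) ^ 3 * (1 + x ^ 4) ^ 1 * (1 - x + x ^ 2 - x ^ 3 + x ^ 4) ^ 1 * (1 - x ^ 2 + x ^ 4) ^ 1 * (1 - x ^ 3 + x ^ 6) ^ 1)
    (h.trans (dvd_of_eq (by ring)))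
  replace h := kill (-1 - x) (x ^ 6) (k := -1 + x - x ^ 2 + x ^ 3 - x ^ 4 + x ^ 5 + x ^ 7) (z := 1 + x + x ^ 2) (L := 1) (by ring) 2 (1 * 1 ^ 4 * 7 ^ 6 * (1 + x ^ 2) ^ 2 * (1 - x + x ^ 2) ^ 3 * (1 + x ^ 4) ^ 1 * (1 - x + x ^ 2 - x ^ 3 + x ^ 4) ^ 1 * (1 - x ^ 2 + x ^ 4) ^ 1 * (1 - x ^ 3 + x ^ 6) ^ 1)
    (h.trans (dvd_of_eq (by ring)))
  replace h := kill (-1) (x - x ^ 2 + x ^ 5) (k := -1 + x - x ^ 2 + x ^ 3 - x ^ 4 + x ^ 5 + x ^ 7) (z := 1 + x ^ 2) (L := 1) (by ring) 2 (1 * 1 ^ 4 * 7 ^ 6 * 1 ^ 2 * (1 - x + x ^ 2) ^ 3 * (1 + x ^ 4) ^ 1 * (1 - x + x ^ 2 - x ^ 3 + x ^ 4) ^ 1 * (1 - x ^ 2 + x ^ 4) ^ 1 * (1 - x ^ 3 + x ^ 6) ^ 1)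
    (h.trans (dvd_of_eq (by ring)))
  replace h := kill (1 - x) (2 - 2 * x ^ 3 + x ^ 6) (k := -1 + x - x ^ 2 + x ^ 3 - x ^ 4 + x ^ 5 + x ^ 7) (z := 1 - x + x ^ 2) (L := 1) (by ring) 3 (1 * 1 ^ 4 * 7 ^ 6 * 1 ^ 2 * 1 ^ 2 * (1 + x ^ 4) ^ 1 * (1 - x + x ^ 2 - x ^ 3 + x ^ 4) ^ 1 * (1 - x ^ 2 + x ^ 4) ^ 1 * (1 - x ^ 3 + x ^ 6) ^ 1)
    (h.trans (dvd_of_eq (by ring)))
  replace h := kill (x ^ 2) (1 + x ^ 2 - x ^ 3 - x ^ 5) (k := -1 + x - x ^ 2 + x ^ 3 - x ^ 4 + x ^ 5 + x ^ 7) (z := 1 + x ^ 4) (L := 1) (by ring) 1 (1 * 1 ^ 4 * 7 ^ 6 * 1 ^ 2 * 1 ^ 2 * 1 ^ 3 * (1 - x + x ^ 2 - x ^ 3 + x ^ 4) ^ 1 * (1 - x ^ 2 + x ^ 4) ^ 1 * (1 - x ^ 3 + x ^ 6) ^ 1)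
    (h.trans (dvd_of_eq (by ring)))
  replace h := kill (-x + x ^ 2) (1 + x ^ 2 - x ^ 5) (k := -1 + x - x ^ 2 + x ^ 3 - x ^ 4 + x ^ 5 + x ^ 7) (z := 1 - x + x ^ 2 - x ^ 3 + x ^ 4) (L := 1) (by ring) 1 (1 * 1 ^ 4 * 7 ^ 6 * 1 ^ 2 * 1 ^ 2 * 1 ^ 3 * 1 ^ 1 * (1 - x ^ 2 + x ^ 4) ^ 1 * (1 - x ^ 3 + x ^ 6) ^ 1)
    (h.trans (dvd_of_eq (by ring)))
  replace h := kill (-14 - 11 * x + 8 * x ^ 2 + x ^ 3) (23 + 3 * x + 28 * x ^ 2 - x ^ 3 + 9 * x ^ 4 - 8 * x ^ 5 - x ^ 6) (k := -1 + x - x ^ 2 + x ^ 3 - x ^ 4 + x ^ 5 + x ^ 7) (z := 1 - x ^ 2 + x ^ 4) (L := 37) (by ring) 1 (1 * 1 ^ 4 * 7 ^ 6 * 1 ^ 2 * 1 ^ 2 * 1 ^ 3 * 1 ^ 1 * 1 ^ 1 * (1 - x ^ 3 + x ^ 6) ^ 1)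
    (h.trans (dvd_of_eq (by ring)))
  replace h := kill (-1 + x ^ 2 - x ^ 4) (x + x ^ 5) (k := -1 + x - x ^ 2 + x ^ 3 - x ^ 4 + x ^ 5 + x ^ 7) (z := 1 - x ^ 3 + x ^ 6) (L := 1) (by ring) 1 (1 * 1 ^ 4 * 7 ^ 6 * 1 ^ 2 * 1 ^ 2 * 1 ^ 3 * 1 ^ 1 * 1 ^ 1 * 37 ^ 1)
    (h.trans (dvd_of_eq (by ring)))
  refine h.trans (dvd_of_eq ?_)
  norm_num

theorem bound_2 (x : ℤ) (h : (tgtZ x - 2) ∣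
    2 * ((-1 + x) ^ 4 * (1 + x) ^ 6 * (1 + x + x ^ 2) ^ 2 * (1 + x ^ 2) ^ 2 * (1 - x + x ^ 2) ^ 3 * (1 + x ^ 4) ^ 1 * (1 - x + x ^ 2 - x ^ 3 + x ^ 4) ^ 1 * (1 - x ^ 2 + x ^ 4) ^ 1 * (1 - x ^ 3 + x ^ 6) ^ 1)) :
    (2 + x + x ^ 2 + x ^ 3 + 2 * x ^ 4 + x ^ 5 + x ^ 6 + x ^ 8 + x ^ 9 + x ^ 10) ∣ 1076291960832 := by
  replace h := (Dvd.intro (-1 + x) (by rw [tgtZ]; ring) : (2 + x + x ^ 2 + x ^ 3 + 2 * x ^ 4 + x ^ 5 + x ^ 6 + x ^ 8 + x ^ 9 + x ^ 10) ∣ tgtZ x - 2).trans h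
  replace h := kill (1) (-10 - 9 * x - 8 * x ^ 2 - 7 * x ^ 3 - 5 * x ^ 4 - 4 * x ^ 5 - 3 * x ^ 6 - 3 * x ^ 7 - 2 * x ^ 8 - x ^ 9) (k := 2 + x + x ^ 2 + x ^ 3 + 2 * x ^ 4 + x ^ 5 + x ^ 6 + x ^ 8 + x ^ 9 + x ^ 10) (z := -1 + x) (L := 12) (by ring) 4 (2 * (1 + x) ^ 6 * (1 + x + x ^ 2) ^ 2 * (1 + x ^ 2) ^ 2 * (1 - x + x ^ 2) ^ 3 * (1 + x ^ 4) ^ 1 * (1 - x + x ^ 2 - x ^ 3 + x ^ 4) ^ 1 * (1 - x ^ 2 + x ^ 4) ^ 1 * (1 - x ^ 3 + x ^ 6) ^ 1)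
    (h.trans (dvd_of_eq (by ring)))
  replace h := kill (1) (2 - 3 * x + 2 * x ^ 2 - 3 * x ^ 3 + x ^ 4 - 2 * x ^ 5 + x ^ 6 - x ^ 7 - x ^ 9) (k := 2 + x + x ^ 2 + x ^ 3 + 2 * x ^ 4 + x ^ 5 + x ^ 6 + x ^ 8 + x ^ 9 + x ^ 10) (z := 1 + x) (L := 4) (by ring) 6 (2 * 12 ^ 4 * (1 + x + x ^ 2) ^ 2 * (1 + x ^ 2) ^ 2 * (1 - x + x ^ 2) ^ 3 * (1 + x ^ 4) ^ 1 * (1 - x + x ^ 2 - x ^ 3 + x ^ 4) ^ 1 * (1 - x ^ 2 + x ^ 4) ^ 1 * (1 - x ^ 3 + x ^ 6) ^ 1)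
    (h.trans (dvd_of_eq (by ring)))
  replace h := kill (1 - x) (1 - x ^ 2 + x ^ 3 - x ^ 4 + x ^ 5 - x ^ 8 + x ^ 9) (k := 2 + x + x ^ 2 + x ^ 3 + 2 * x ^ 4 + x ^ 5 + x ^ 6 + x ^ 8 + x ^ 9 + x ^ 10) (z := 1 + x + x ^ 2) (L := 3) (by ring) 2 (2 * 12 ^ 4 * 4 ^ 6 * (1 + x ^ 2) ^ 2 * (1 - x + x ^ 2) ^ 3 * (1 + x ^ 4) ^ 1 * (1 - x + x ^ 2 - x ^ 3 + x ^ 4) ^ 1 * (1 - x ^ 2 + x ^ 4) ^ 1 * (1 - x ^ 3 + x ^ 6) ^ 1)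
    (h.trans (dvd_of_eq (by ring)))
  replace h := kill (1 - x) (2 + x - 2 * x ^ 2 - x ^ 3 + x ^ 4 + 2 * x ^ 5 - x ^ 6 - x ^ 7 + x ^ 9) (k := 2 + x + x ^ 2 + x ^ 3 + 2 * x ^ 4 + x ^ 5 + x ^ 6 + x ^ 8 + x ^ 9 + x ^ 10) (z := 1 + x ^ 2) (L := 4) (by ring) 2 (2 * 12 ^ 4 * 4 ^ 6 * 3 ^ 2 * (1 - x + x ^ 2) ^ 3 * (1 + x ^ 4) ^ 1 * (1 - x + x ^ 2 - x ^ 3 + x ^ 4) ^ 1 * (1 - x ^ 2 + x ^ 4) ^ 1 * (1 - x ^ 3 + x ^ 6) ^ 1)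
    (h.trans (dvd_of_eq (by ring)))
  replace h := kill (-1 + x) (3 + 2 * x - x ^ 2 - 3 * x ^ 3 - x ^ 4 + x ^ 5 + 2 * x ^ 6 - x ^ 8 - x ^ 9) (k := 2 + x + x ^ 2 + x ^ 3 + 2 * x ^ 4 + x ^ 5 + x ^ 6 + x ^ 8 + x ^ 9 + x ^ 10) (z := 1 - x + x ^ 2) (L := 1) (by ring) 3 (2 * 12 ^ 4 * 4 ^ 6 * 3 ^ 2 * 4 ^ 2 * (1 + x ^ 4) ^ 1 * (1 - x + x ^ 2 - x ^ 3 + x ^ 4) ^ 1 * (1 - x ^ 2 + x ^ 4) ^ 1 * (1 - x ^ 3 + x ^ 6) ^ 1)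
    (h.trans (dvd_of_eq (by ring)))
  replace h := kill (1 - x) (x - x ^ 4 + x ^ 7) (k := 2 + x + x ^ 2 + x ^ 3 + 2 * x ^ 4 + x ^ 5 + x ^ 6 + x ^ 8 + x ^ 9 + x ^ 10) (z := 1 + x ^ 4) (L := 2) (by ring) 1 (2 * 12 ^ 4 * 4 ^ 6 * 3 ^ 2 * 4 ^ 2 * 1 ^ 3 * (1 - x + x ^ 2 - x ^ 3 + x ^ 4) ^ 1 * (1 - x ^ 2 + x ^ 4) ^ 1 * (1 - x ^ 3 + x ^ 6) ^ 1)
    (h.trans (dvd_of_eq (by ring)))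
  replace h := kill (6 - 3 * x - x ^ 2 - x ^ 3) (-1 - x - x ^ 2 - x ^ 3 - 7 * x ^ 4 - 4 * x ^ 5 + 3 * x ^ 6 + 7 * x ^ 7 + 3 * x ^ 8 + x ^ 9) (k := 2 + x + x ^ 2 + x ^ 3 + 2 * x ^ 4 + x ^ 5 + x ^ 6 + x ^ 8 + x ^ 9 + x ^ 10) (z := 1 - x + x ^ 2 - x ^ 3 + x ^ 4) (L := 11) (by ring) 1 (2 * 12 ^ 4 * 4 ^ 6 * 3 ^ 2 * 4 ^ 2 * 1 ^ 3 * 2 ^ 1 * (1 - x ^ 2 + x ^ 4) ^ 1 * (1 - x ^ 3 + x ^ 6) ^ 1)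
    (h.trans (dvd_of_eq (by ring)))
  replace h := kill (1 - x) (-1 + x - x ^ 2 + x ^ 3 - x ^ 4 + x ^ 5 + x ^ 7) (k := 2 + x + x ^ 2 + x ^ 3 + 2 * x ^ 4 + x ^ 5 + x ^ 6 + x ^ 8 + x ^ 9 + x ^ 10) (z := 1 - x ^ 2 + x ^ 4) (L := 1) (by ring) 1 (2 * 12 ^ 4 * 4 ^ 6 * 3 ^ 2 * 4 ^ 2 * 1 ^ 3 * 2 ^ 1 * 11 ^ 1 * (1 - x ^ 3 + x ^ 6) ^ 1)
    (h.trans (dvd_of_eq (by ring)))
  replace h := kill (1 - x) (x + x ^ 5) (k := 2 + x + x ^ 2 + x ^ 3 + 2 * x ^ 4 + x ^ 5 + x ^ 6 + x ^ 8 + x ^ 9 + x ^ 10) (z := 1 - x ^ 3 + x ^ 6) (L := 2) (by ring) 1 (2 * 12 ^ 4 * 4 ^ 6 * 3 ^ 2 * 4 ^ 2 * 1 ^ 3 * 2 ^ 1 * 11 ^ 1 * 1 ^ 1)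
    (h.trans (dvd_of_eq (by ring)))
  refine h.trans (dvd_of_eq ?_)
  norm_num

/-- The claimed minimal degree. -/
def tgt (q : ℕ) : ℕ := q * (q ^ 6 - q ^ 3 + 1) * (q ^ 4 + 1)

theorem tgt_cast {q : ℕ} (hq : 1 ≤ q) : (tgt q : ℤ) = tgtZ q := by
  have : q ^ 3 ≤ q ^ 6 := Nat.pow_le_pow_right hq (by omega)
  rw [tgt, tgtZ]
  push_cast [Nat.cast_sub this]
  ring

theorem small_none : ∀ q < 17, 2 ≤ q → ∀ D < 3, 1 ≤ D → bigN q % (tgt q - D) ≠ 0 := by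
  decide +kernel

theorem no_dvd {q D : ℕ} (hq : IsPrimePow q) (h1 : 1 ≤ D) (h6 : D ≤ 2) :
    ¬ (tgt q - D) ∣ bigN q := by
  rcases lt_or_ge q 17 with hs | hs
  · exact fun h => small_none q hs hq.two_le D (by omega) h1 (Nat.mod_eq_zero_of_dvd h)
  intro h
  have hle : D ≤ tgt q := by
    have : 1 * 1 * 1 ≤ (q ^ 6 - q ^ 3 + 1) * (q ^ 4 + 1) * 1 := by gcongr <;> omega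
    calc D ≤ q := by omega
      _ = q * 1 * 1 := by ring
      _ ≤ tgt q := by unfold tgt; gcongr <;> omega
  have hg := gcd_pow_dvd (N := 47) hq (D := D) (k := tgt q - D)
    (fun hd => by have := Nat.le_of_dvd (by omega) hd; omega)
    (by rw [Nat.sub_add_cancel hle]; exact Dvd.intro ((q ^ 6 - q ^ 3 + 1) * (q ^ 4 + 1)) (by unfold tgt; ring))
  have h2 : tgt q - D ∣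
      D * ((q ^ 2 - 1) * (q ^ 5 + 1) * (q ^ 6 - 1) * (q ^ 8 - 1) * (q ^ 9 + 1) * (q ^ 12 - 1)) := by
    refine dvd_trans ?_ (Nat.mul_dvd_mul_right hg _)
    refine dvd_trans ?_ (mul_dvd_mul_left _ (Nat.gcd_dvd_right (tgt q - D) _))
    exact (Nat.dvd_gcd dvd_rfl h).trans (Nat.gcd_mul_right_dvd_mul_gcd _ _ _)
  obtain ⟨x, hx⟩ : ∃ x : ℤ, x = (q : ℤ) := ⟨_, rfl⟩
  have hx17 : (17 : ℤ) ≤ x := by omega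
  have h3 := Int.natCast_dvd_natCast.2 h2
  have p : ∀ i, 1 ≤ q ^ i := fun i => Nat.one_le_pow _ _ (by omega)
  have ek : ((tgt q - D : ℕ) : ℤ) = tgtZ x - D := by
    rw [Nat.cast_sub hle, tgt_cast (by omega), hx]
  rw [ek] at h3
  push_cast [Nat.cast_sub (p 2), Nat.cast_sub (p 6), Nat.cast_sub (p 8), Nat.cast_sub (p 12),
    ← hx] at h3
  rw [stuff_eq] at h3
  have st : ∀ i : ℕ, 17 * x ^ i ≤ x ^ (i + 1) := fun i => by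
    rw [pow_succ' x i]; exact mul_le_mul_of_nonneg_right hx17 (by positivity)
  have s1 := st 1; have s2 := st 2; have s3 := st 3; have s4 := st 4; have s5 := st 5
  have s6 := st 6; have s7 := st 7; have s8 := st 8; have s9 := st 9; have s10 := st 10
  have p2 : 0 ≤ x ^ 2 := by positivity
  have p3 : 0 ≤ x ^ 3 := by positivity
  have p7 : (17 : ℤ) ^ 7 ≤ x ^ 7 := pow_le_pow_left₀ (by norm_num) hx17 7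
  have p10 : (17 : ℤ) ^ 10 ≤ x ^ 10 := pow_le_pow_left₀ (by norm_num) hx17 10
  norm_num at p7 p10 s1 s2 s3 s4 s5 s6 s7 s8 s9 s10
  interval_cases D
  · have := Int.le_of_dvd (by norm_num) (bound_1 x (by convert h3 using 1 <;> first | rfl | (push_cast; ring)))
    linarith
  · have := Int.le_of_dvd (by norm_num) (bound_2 x (by convert h3 using 1 <;> first | rfl | (push_cast; ring)))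
    linarith

end CfsgLib.TwistESixDegree
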