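import Cfsg.Agent.TwistESixDegree.Moves

/-!
# The fixed space of the first family

When the weights of the first family are the singular vectors with multiplicity `q⁴`, the second family
acts non-trivially on the fixed space, and its dimension is at least `q⁵ + q - 2`.
-/

set_option autoImplicit false
set_option linter.unusedSectionVars false
set_option maxHeartbeats 400000

namespace CfsgLib.TwistESixDegree

open Cfsg.Lie CfsgLib.Chevalley CfsgLib.GraphTwist Module CfsgLib.RepBounds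
open scoped MatrixGroups

variable {K : Type*} [Field K] [Fintype K]

section Form

variable {σ : K ≃+* K} [hσ : Fact (∀ x : K, σ (σ x) = x)] {k : ℕ} {q : ℕ}

theorem lm_fix (a b0 b1 : Fld σ) (r : MS σ k) :
    lmW σ pT0 pF1 a (emb b0 b1 r) = emb b0 b1 r := by
  obtain ⟨e0, e1⟩ := emb_pT b0 b1 r
  refine Prod.ext (funext fun i => ?_) rfl
  simp only [lmW]
  rw [show mate (pF1 : Hx (k + 2)) = pT1 from rfl, e0, e1]
  simp

theorem lm_shift0 (g : Hx k) (a b0 b1 : Fld σ) (r : MS σ k) :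
    lmW σ (up2 g) pF0 a (emb b0 b1 r) = emb (b0 + a * r.1 g) b1 r := by
  obtain ⟨e0, e1, e2⟩ := emb_eval b0 b1 r
  refine Prod.ext (funext fun ⟨i, b⟩ => ?_) rfl
  obtain rfl | ⟨j, rfl⟩ := Fin.eq_zero_or_eq_succ i
  · cases b <;> simp [lmW, mate, up2, e0, e1, e2, (emb_eval _ _ _).1, Fin.ext_iff]
  · obtain rfl | ⟨l, rfl⟩ := Fin.eq_zero_or_eq_succ j
    · cases b <;> simp [lmW, mate, up2, e0, e1, e2, (emb_eval _ _ _).2.1, Fin.ext_iff]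
    · simp [lmW, mate, up2, e0, e1, e2, (emb_eval _ _ _).2.2, Fin.succ_succ_ne_one, Fin.succ_ne_zero]

theorem lm_shift1 (g : Hx k) (a b0 b1 : Fld σ) (r : MS σ k) :
    lmW σ (up2 g) pF1 a (emb b0 b1 r) = emb b0 (b1 + a * r.1 g) r := by
  obtain ⟨e0, e1, e2⟩ := emb_eval b0 b1 r
  refine Prod.ext (funext fun ⟨i, b⟩ => ?_) rfl
  obtain rfl | ⟨j, rfl⟩ := Fin.eq_zero_or_eq_succ i
  · cases b <;> simp [lmW, mate, up2, e0, e1, e2, (emb_eval _ _ _).1, Fin.ext_iff]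
  · obtain rfl | ⟨l, rfl⟩ := Fin.eq_zero_or_eq_succ j
    · cases b <;> simp [lmW, mate, up2, e0, e1, e2, (emb_eval _ _ _).2.1, Fin.ext_iff]
    · simp [lmW, mate, up2, e0, e1, e2, (emb_eval _ _ _).2.2, Fin.succ_succ_ne_one, Fin.succ_ne_zero]

theorem sm_fix (g : Hx k) (t : K) {w : MS σ k} (h1 : w.1 g = 0) (h2 : w.2 = 0) :
    smW σ g t w = w := by
  refine Prod.ext (funext fun i => Subtype.ext ?_) (by simp [smW, h1, h2])
  simp only [smW, h1, h2, mul_zero, add_zero]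
  by_cases hi : i = mate g
  · simp [hi]
  · simp [hi]

theorem nSing_zero : nSing σ 0 = 1 := card_Lvl_zero_zero σ

theorem nSing_vals (H : FieldData σ q) :
    (nSing σ 1 : ℤ) = (q : ℤ) ^ 3 - (q : ℤ) ^ 2 + q ∧
    (nSing σ 2 : ℤ) = (q : ℤ) ^ 5 - (q : ℤ) ^ 3 + (q : ℤ) ^ 2 ∧
    (nSing σ 3 : ℤ) = (q : ℤ) ^ 7 - (q : ℤ) ^ 4 + (q : ℤ) ^ 3 := by
  have hq : 1 ≤ q := le_trans one_le_two H.two_le
  have h1 : (nSing σ 1 : ℤ) = (q : ℤ) ^ 3 - (q : ℤ) ^ 2 + q := by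
    rw [nSing_succ H, nSing_zero]; push_cast [Nat.cast_sub hq]; ring
  have h2 : (nSing σ 2 : ℤ) = (q : ℤ) ^ 5 - (q : ℤ) ^ 3 + (q : ℤ) ^ 2 := by
    rw [nSing_succ H]; push_cast [Nat.cast_sub hq, h1]; ring
  refine ⟨h1, h2, ?_⟩
  rw [nSing_succ H]; push_cast [Nat.cast_sub hq, h2]; ring

theorem lvl_vals (H : FieldData σ q) {ν : Fld σ} (hν : ν ≠ 0) :
    (Nat.card (Lvl σ 1 ν) : ℤ) = (q : ℤ) ^ 3 + q ∧
    (Nat.card (Lvl σ 2 ν) : ℤ) = (q : ℤ) ^ 5 + (q : ℤ) ^ 2 ∧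
    (Nat.card (Lvl σ 3 ν) : ℤ) = (q : ℤ) ^ 7 + (q : ℤ) ^ 3 := by
  have hq : 1 ≤ q := le_trans one_le_two H.two_le
  have h0 := card_Lvl_zero σ H.two_le H.card H.card_fld H.frob hν
  have h1 : (Nat.card (Lvl σ 1 ν) : ℤ) = (q : ℤ) ^ 3 + q := by
    rw [card_Lvl_succ σ H.card H.card_fld, h0]; push_cast [Nat.cast_sub hq]; ring
  have h2 : (Nat.card (Lvl σ 2 ν) : ℤ) = (q : ℤ) ^ 5 + (q : ℤ) ^ 2 := by
    rw [card_Lvl_succ σ H.card H.card_fld]; push_cast [Nat.cast_sub hq, h1]; ring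
  refine ⟨h1, h2, ?_⟩
  rw [card_Lvl_succ σ H.card H.card_fld]; push_cast [Nat.cast_sub hq, h2]; ring

variable {G : Type*} [Group G] {V : Type*} [AddCommGroup V] [Module ℂ V] [FiniteDimensional ℂ V]
  {ρ : Representation ℂ G V} {ψ : AddChar (Fld σ) ℂ}

/-- The bound from a weight of non-zero value, over the integers. -/
theorem level_bound_int (H : FieldData σ q) (hψ : ψ.IsPrimitive) (𝔉 : Fam σ (k + 1) G)
    {w : MS σ (k + 1)} (hw : w ≠ 0) :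
    (mu σ ψ 𝔉 ρ 0 : ℤ) + mu σ ψ 𝔉 ρ w * ((Nat.card (Lvl σ (k + 1) (qf σ w)) : ℤ) - 1) ≤
      finrank ℂ V := by
  have h := level_bound H hψ ρ 𝔉 hw
  have h1 : 1 ≤ Nat.card (Lvl σ (k + 1) (qf σ w)) :=
    Nat.one_le_iff_ne_zero.2 (Nat.card_ne_zero.2 ⟨⟨⟨w, rfl⟩⟩, inferInstance⟩)
  have h2 : ((mu σ ψ 𝔉 ρ 0 + mu σ ψ 𝔉 ρ w * (Nat.card (Lvl σ (k + 1) (qf σ w)) - 1) : ℕ) : ℤ) ≤
      finrank ℂ V := by exact_mod_cast h
  push_cast [Nat.cast_sub h1] at h2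
  exact h2

/-- A family with one plane acting non-trivially. -/
theorem bound_one (H : FieldData σ q) (hψ : ψ.IsPrimitive) (𝔉 : Fam σ 1 G) {v : MS σ 1}
    (hv : ρ (𝔉.P v) ≠ 1) : (q : ℤ) ^ 3 - (q : ℤ) ^ 2 + q - 1 ≤ finrank ℂ V := by
  have hq : (2 : ℤ) ≤ q := by exact_mod_cast H.two_le
  have hm0 : (0 : ℤ) ≤ mu σ ψ 𝔉 ρ 0 := Int.natCast_nonneg _
  rcases step_cases H hψ ρ 𝔉 hv with ⟨w, hw, hq', hpos⟩ | ⟨m, w, hm, hw, -, -, hE⟩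
  · have h := level_bound_int (ρ := ρ) H hψ 𝔉 hw
    rw [(lvl_vals H hq').1] at h
    have hpos' : (1 : ℤ) ≤ mu σ ψ 𝔉 ρ w := by exact_mod_cast hpos
    nlinarith
  · have h := finrank_exact H hψ hE
    rw [(nSing_vals H).1] at h
    have hm' : (1 : ℤ) ≤ m := by exact_mod_cast hm
    nlinarith [mul_nonneg (show (0 : ℤ) ≤ m - 1 by linarith)
      (show (0 : ℤ) ≤ (q : ℤ) ^ 3 - (q : ℤ) ^ 2 + q - 1 by nlinarith)]

end Form

variable (Φ : FieldTwist setupE6 K) {q : ℕ} (H : FieldData Φ.f q) {ψ : AddChar (Fld Φ.f) ℂ}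
  (hψ : ψ.IsPrimitive) {V : Type*} [AddCommGroup V] [Module ℂ V] [FiniteDimensional ℂ V]
  (ρ : Representation ℂ ↥Φ.tG V)
include H hψ

/-- The first move is not trivial on the fixed space. -/
theorem move_fixed [Finite ↥Φ.tG] (hE : Exact ψ (fam1 Φ) ρ (q ^ 4)) :
    trW ψ (fam1 Φ) ρ ((fam1 Φ).L (0, true) (1, false) 1) 0 ≠
      (mu Φ.f ψ (fam1 Φ) ρ 0 : ℂ) := by
  classical
  intro h0
  set 𝔉 := fam1 Φ
  set x := 𝔉.L (0, true) (1, false) 1 with hx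
  have hC : CommOk (k := 1) 𝔉 x := commOk1 Φ
  obtain ⟨hr0, hqr0⟩ := qf_base_ne (σ := Φ.f) (k := 0) (ν := 0)
  set r0 : MS Φ.f 1 := base Φ.f 1 0 with hr0d
  set wa : MS Φ.f 3 := emb 1 0 0
  set wb : MS Φ.f 3 := emb 0 0 r0
  -- the two values
  have hTa : ∀ b0 b1, (b0 ≠ 0 ∨ b1 ≠ 0) →
      trW ψ 𝔉 ρ x (emb b0 b1 (0 : MS Φ.f 1)) = trW ψ 𝔉 ρ x wa :=
    fun b0 b1 hb => trW_plane ψ ρ hC 0 hb
  have hone : r0.1 j0 = 1 := by simp [hr0d, base]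
  have e00 : ∀ b0 b1 : Fld Φ.f, lmW Φ.f (up2 (j0 : Hx 1)) pF0 (-b0) (emb b0 b1 r0) = emb 0 b1 r0 ∧
      lmW Φ.f (up2 (j0 : Hx 1)) pF1 (-b1) (emb b0 b1 r0) = emb b0 0 r0 := fun b0 b1 => by
    rw [lm_shift0, lm_shift1, hone, mul_one, mul_one, add_neg_cancel, add_neg_cancel]
    exact ⟨rfl, rfl⟩
  have hTb : ∀ b0 b1 r, r ≠ 0 → qf Φ.f r = 0 →
      trW ψ 𝔉 ρ x (emb b0 b1 r) = trW ψ 𝔉 ρ x wb := fun b0 b1 r hr hqr => by
    rw [trW_emb_conn ψ ρ hC (conn_of_qf Φ.f H.moved H.nm_surj' hr hr0 (hqr.trans hqr0.symm)),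
      ← trW_lm ψ 𝔉 ρ (show (up2 (j0 : Hx 1)).1 ≠ (pF0 : Hx 3).1 by simp [Fin.ext_iff]) (-b0)
        (hC.shift j0 _).1 (emb b0 b1 r0), (e00 b0 b1).1,
      ← trW_lm ψ 𝔉 ρ (show (up2 (j0 : Hx 1)).1 ≠ (pF1 : Hx 3).1 by simp [Fin.ext_iff]) (-b1)
        (hC.shift j0 _).2 (emb 0 b1 r0), (e00 0 b1).2]
  obtain ⟨N, hN⟩ := exists_adj1 Φ
  have hadj : LinearMap.trace ℂ V (ρ x) =
      LinearMap.trace ℂ V (ρ (𝔉.P (single Φ.f (1, true) (-1)))) := by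
    rw [← trace_conj ρ N (ρ x), ← map_mul ρ, hN, map_mul ρ, mul_assoc, ← map_mul ρ, mul_inv_cancel,
      map_one, mul_one]
  have hd := defect_eq ρ H hψ hE hTa hTb (neg_ne_zero.2 one_ne_zero) hadj
  have hn1 : (nSing Φ.f 1 : ℂ) = (q : ℂ) ^ 3 - (q : ℂ) ^ 2 + q := by
    exact_mod_cast congrArg (Int.cast : ℤ → ℂ) (nSing_vals H).1
  rw [show trW ψ 𝔉 ρ (𝔉.L pT0 pF1 1) 0 = _ from h0, hn1, sub_self, zero_add] at hd
  -- both values are traces on invariant spaces of dimension `q⁴`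
  have hqa : qf Φ.f wa = 0 := by
    rw [qf_emb]; exact Subtype.ext (by simp [qf])
  have hwa : wa ≠ 0 := fun h => by simpa [wa, emb] using congrArg (fun w : MS Φ.f 3 => w.1 pF0) h
  have hqb : qf Φ.f wb = 0 := (qf_emb _ _ _).trans hqr0
  have hwb : wb ≠ 0 := fun h => one_ne_zero (α := Fld Φ.f) (by
    rw [← hone]
    exact congrArg (fun w : MS Φ.f 3 => w.1 (up2 (j0 : Hx 1))) h)
  have hmu : ∀ {w : MS Φ.f 3}, w ≠ 0 → qf Φ.f w = 0 → rnk (pr Φ.f ψ 𝔉 ρ w) = q ^ 4 :=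
    fun hw h => (hE _ hw).trans (if_pos h)
  have hcx : ∀ b0 b1 (r : MS Φ.f 1), x ∈ cent ρ (pr Φ.f ψ 𝔉 ρ (emb b0 b1 r)) := fun b0 b1 r =>
    L_mem_cent ψ 𝔉 ρ (by simp) 1 (lm_fix (-1) b0 b1 r)
  set Ta := trW ψ 𝔉 ρ x wa
  set Tb := trW ψ 𝔉 ρ x wb
  set I : ℂ := ((q : ℂ) + 1) * ((q ^ 4 : ℕ) - Ta) +
    (q : ℂ) ^ 2 * ((q : ℂ) ^ 2 + 1) * ((q ^ 4 : ℕ) - Tb) with hI
  have hIe : ((q : ℂ) - 1) * I = (q : ℂ) ^ 9 := by
    rw [hI]; push_cast at hd ⊢; linear_combination hd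
  have hintA : IsIntegral ℤ Ta := isIntegral_trace_mul ρ (pr_idem _ _ _ _ _) (hcx 1 0 0)
  have hintB : IsIntegral ℤ Tb := isIntegral_trace_mul ρ (pr_idem _ _ _ _ _) (hcx 0 0 r0)
  have hnat : ∀ n : ℕ, IsIntegral ℤ (n : ℂ) := fun n => by
    simpa using isIntegral_algebraMap (R := ℤ) (A := ℂ) (x := (n : ℤ))
  have hI' : IsIntegral ℤ I :=
    ((by simpa using (hnat (q + 1)) : IsIntegral ℤ ((q : ℂ) + 1)).mul ((hnat _).sub hintA)).add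
      ((by have := hnat (q ^ 2 * (q ^ 2 + 1)); push_cast at this; exact this :
        IsIntegral ℤ ((q : ℂ) ^ 2 * ((q : ℂ) ^ 2 + 1))).mul ((hnat _).sub hintB))
  have hq2 := H.two_le
  have hcast : ((q - 1 : ℕ) : ℂ) = (q : ℂ) - 1 := by push_cast [Nat.cast_sub (show 1 ≤ q by omega)]; ring
  have hdvd : q - 1 ∣ q ^ 9 := by
    refine Characters.dvd_of_isIntegral_div (by omega) ?_
    rw [Nat.cast_pow, ← hIe, hcast, mul_div_cancel_left₀ _ (by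
      rw [← hcast]; exact Nat.cast_ne_zero.2 (by omega))]
    exact hI'
  have hqe : q = 2 := by
    have hco : Nat.Coprime (q - 1) q := by
      have := Nat.coprime_self_add_right (m := q - 1) (n := 1)
      rw [show q - 1 + 1 = q by omega] at this
      exact this.2 (Nat.coprime_one_right _)
    have := Nat.eq_one_of_dvd_coprimes (hco.pow_right 9) dvd_rfl hdvd
    omega
  subst hqe
  -- over four elements the move is an involution and a commutator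
  have h2K : (2 : K) = 0 := by
    have hcard : (Nat.card K : K) = 0 := by
      rw [Nat.card_eq_fintype_card]; exact Nat.cast_card_eq_zero K
    rw [H.card, Nat.cast_pow, Nat.cast_ofNat] at hcard
    exact (pow_eq_zero_iff two_ne_zero).1 hcard
  obtain ⟨u, a, hcm⟩ := L1_commutator Φ H.moved
  have hfix : ∀ w : MS Φ.f 3, w.1 (0, true) = 0 → w.1 (1, true) = 0 → w.2 = 0 →
      𝔉.S (0, true) u ∈ cent ρ (pr Φ.f ψ 𝔉 ρ w) ∧ 𝔉.S (1, true) a ∈ cent ρ (pr Φ.f ψ 𝔉 ρ w) :=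
    fun w h1 h2 h3 => ⟨S_mem_cent ψ 𝔉 ρ _ _ (sm_fix _ _ h1 h3), S_mem_cent ψ 𝔉 ρ _ _ (sm_fix _ _ h2 h3)⟩
  obtain ⟨ua, sa⟩ := hfix wa rfl rfl rfl
  obtain ⟨ub, sb⟩ := hfix wb rfl rfl (by simp [wb, emb, hr0d, base])
  obtain ⟨c, hc, hc2⟩ := trace_commutator_involution ρ (pr_idem Φ.f ψ 𝔉 ρ wa) ua sa hcm (L1_sq Φ h2K)
  obtain ⟨d, hd', hd2⟩ := trace_commutator_involution ρ (pr_idem Φ.f ψ 𝔉 ρ wb) ub sb hcm (L1_sq Φ h2K)
  rw [hmu hwa hqa] at hc hc2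
  rw [hmu hwb hqb] at hd' hd2
  change _ - Ta = _ at hc
  change _ - Tb = _ at hd'
  rw [hI, hc, hd'] at hIe
  have hkey : ((12 * c + 80 * d : ℕ) : ℂ) = ((512 : ℕ) : ℂ) := by
    push_cast at hIe ⊢; linear_combination hIe
  have hkey' := Nat.cast_injective hkey
  norm_num at hc2 hd2
  omega

/-- The second family in the centraliser of the fixed projector of the first. -/
theorem mem_one : (∀ v, (fam2 Φ).P v ∈ cent ρ (pr Φ.f ψ (fam1 Φ) ρ 0)) ∧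
    (∀ g h a, (fam2 Φ).L g h a ∈ cent ρ (pr Φ.f ψ (fam1 Φ) ρ 0)) ∧
    ∀ g t, (fam2 Φ).S g t ∈ cent ρ (pr Φ.f ψ (fam1 Φ) ρ 0) :=
  GeoData.sub_mem Φ geo1_ok geo2_ok sub21 _
    (fun g h hgh a => L_mem_cent ψ _ ρ hgh a (lmW_zero g h _))
    fun g t => S_mem_cent ψ _ ρ g t (smW_zero g _)

/-- The fixed space of the first family is large. -/
theorem bound_two [Finite ↥Φ.tG] (hE : Exact ψ (fam1 Φ) ρ (q ^ 4)) :
    (q : ℤ) ^ 5 + q - 2 ≤ mu Φ.f ψ (fam1 Φ) ρ 0 := by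
  classical
  set e1 := pr Φ.f ψ (fam1 Φ) ρ 0
  set C1 := cent ρ e1
  obtain ⟨hP, hL, hS⟩ := mem_one Φ H hψ ρ
  set 𝔉 : Fam Φ.f 2 ↥C1 := (fam2 Φ).restrict C1 hP hL hS
  set ρ1 := resRep ρ e1
  have hfr : finrank ℂ (LinearMap.range e1) = mu Φ.f ψ (fam1 Φ) ρ 0 := rfl
  have hv : ρ1 (𝔉.P (single Φ.f (0, true) 1)) ≠ 1 := fun h => by
    refine move_fixed Φ H hψ ρ hE ?_
    rw [trW, ← P2_val]
    have := trace_resRep ρ (pr_idem Φ.f ψ (fam1 Φ) ρ 0) (𝔉.P (single Φ.f (0, true) 1))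
    rw [show resRep ρ (pr Φ.f ψ (fam1 Φ) ρ 0) (𝔉.P (single Φ.f (0, true) 1)) = 1 from h,
      LinearMap.trace_one] at this
    exact this.symm
  rw [← hfr]
  have hq : (2 : ℤ) ≤ q := by exact_mod_cast H.two_le
  have hm0 : (0 : ℤ) ≤ mu Φ.f ψ 𝔉 ρ1 0 := Int.natCast_nonneg _
  rcases step_cases H hψ ρ1 𝔉 hv with ⟨w, hw, hq', hpos⟩ | ⟨m, w, hm, hw, hqw, hmu, hE2⟩
  · have h := level_bound_int (ρ := ρ1) H hψ 𝔉 hw
    rw [(lvl_vals H hq').2.1] at h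
    have hpos' : (1 : ℤ) ≤ mu Φ.f ψ 𝔉 ρ1 w := by exact_mod_cast hpos
    nlinarith [mul_nonneg (show (0 : ℤ) ≤ mu Φ.f ψ 𝔉 ρ1 w - 1 by linarith)
      (show (0 : ℤ) ≤ (q : ℤ) ^ 5 + (q : ℤ) ^ 2 - 1 by
        nlinarith [pow_nonneg (show (0 : ℤ) ≤ q by linarith) 5])]
  have h := finrank_exact H hψ hE2
  rw [(nSing_vals H).2.1] at h
  have hB : (0 : ℤ) ≤ (q : ℤ) ^ 5 - 2 * (q : ℤ) ^ 3 + 2 * (q : ℤ) ^ 2 - q - 2 := by
    nlinarith [mul_le_mul hq hq (by norm_num) (by linarith),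
      mul_nonneg (pow_nonneg (show (0 : ℤ) ≤ q by linarith) 3) (show (0 : ℤ) ≤ (q : ℤ) ^ 2 - 2 by nlinarith)]
  rcases (show m = 1 ∨ 2 ≤ m by omega) with rfl | hm2
  · -- the second move is not trivial on the next fixed space
    set C2 := cent ρ1 (pr Φ.f ψ 𝔉 ρ1 0)
    set 𝔊 := 𝔉.L (0, true) (1, false) 1 with hx
    have hC : CommOk (k := 0) 𝔉 𝔊 := by
      obtain ⟨c1, c2, -, -, -⟩ := commOk2 Φ
      exact ⟨fun a => Subtype.ext (c1 a).eq, fun a => Subtype.ext (c2 a).eq,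
        fun i => i.1.elim0, fun g => g.1.elim0, fun i => i.1.elim0⟩
    have hTa : ∀ b0 b1, (b0 ≠ 0 ∨ b1 ≠ 0) →
        trW ψ 𝔉 ρ1 𝔊 (emb b0 b1 (0 : MS Φ.f 0)) = trW ψ 𝔉 ρ1 𝔊 (emb 1 0 0) :=
      fun b0 b1 hb => trW_plane ψ ρ1 hC 0 hb
    have hTb : ∀ b0 b1 (r : MS Φ.f 0), r ≠ 0 → qf Φ.f r = 0 →
        trW ψ 𝔉 ρ1 𝔊 (emb b0 b1 r) = 0 := fun b0 b1 r hr hqr => by
      refine absurd ?_ hr
      rw [qf_zero_MS] at hqr
      have := congrArg Subtype.val hqr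
      exact Prod.ext (funext fun i => i.1.elim0) (by simpa using this)
    obtain ⟨hmL1, hmL2⟩ := And.intro
      (L_mem_cent ψ (fam1 Φ) ρ (g := (0, true)) (h := (1, true)) (by simp) 1 (lmW_zero _ _ _))
      (L_mem_cent ψ (fam1 Φ) ρ (g := (1, true)) (h := (0, true)) (by simp) (-1) (lmW_zero _ _ _))
    set N : ↥C1 := ⟨_, hmL1⟩ * ⟨_, hmL2⟩ * ⟨_, hmL1⟩ with hNd
    have hN : N * 𝔊 = 𝔉.P (single Φ.f (1, true) 1) * N := Subtype.ext (adj2_conj Φ)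
    have hadj : LinearMap.trace ℂ _ (ρ1 𝔊) =
        LinearMap.trace ℂ _ (ρ1 (𝔉.P (single Φ.f (1, true) 1))) := by
      rw [← trace_conj ρ1 N (ρ1 𝔊), ← map_mul ρ1, hN, map_mul ρ1, mul_assoc, ← map_mul ρ1,
        mul_inv_cancel, map_one, mul_one]
    have hd := defect_eq ρ1 H hψ hE2 hTa hTb one_ne_zero hadj
    rw [nSing_zero] at hd
    set Ta := trW ψ 𝔉 ρ1 𝔊 (emb 1 0 (0 : MS Φ.f 0))
    have hintA : IsIntegral ℤ Ta := isIntegral_trace_mul ρ1 (pr_idem _ _ _ _ _)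
      (L_mem_cent ψ 𝔉 ρ1 (by simp) 1 (lm_fix (-1) 1 0 0))
    have hD : trW ψ 𝔉 ρ1 𝔊 0 ≠ (mu Φ.f ψ 𝔉 ρ1 0 : ℂ) := by
      intro h0
      rw [show trW ψ 𝔉 ρ1 (𝔉.L pT0 pF1 1) 0 = _ from h0, sub_self, zero_add] at hd
      push_cast at hd
      have hq2 : 1 ≤ q ^ 2 := Nat.one_le_pow _ _ (by linarith [H.two_le])
      have hcast : ((q ^ 2 - 1 : ℕ) : ℂ) = (q : ℂ) ^ 2 - 1 := by push_cast [Nat.cast_sub hq2]; ring
      have hne : q ^ 2 - 1 ≠ 0 := by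
        have := Nat.pow_le_pow_left H.two_le 2
        omega
      have hdvd : q ^ 2 - 1 ∣ q ^ 3 := by
        refine Characters.dvd_of_isIntegral_div hne ?_
        rw [Nat.cast_pow, show (q : ℂ) ^ 3 = ((q : ℂ) ^ 2 - 1) * (1 - Ta) by linear_combination -hd,
          hcast, mul_div_cancel_left₀ _ (by rw [← hcast]; exact Nat.cast_ne_zero.2 hne)]
        exact isIntegral_one.sub hintA
      have hco : Nat.Coprime (q ^ 2 - 1) (q ^ 2) := by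
        have := Nat.coprime_self_add_right (m := q ^ 2 - 1) (n := 1)
        rw [show q ^ 2 - 1 + 1 = q ^ 2 by omega] at this
        exact this.2 (Nat.coprime_one_right _)
      have := Nat.eq_one_of_dvd_coprimes ((hco.pow_right 2)) dvd_rfl
        (hdvd.trans ⟨q, by ring⟩ : q ^ 2 - 1 ∣ (q ^ 2) ^ 2)
      have := Nat.pow_le_pow_left H.two_le 2
      omega
    obtain ⟨hP3, hL3, hS3⟩ := GeoData.sub_mem Φ geo2_ok geo3_ok sub32 (C2.map C1.subtype)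
      (fun g h hgh a => ⟨𝔉.L g h a, L_mem_cent ψ 𝔉 ρ1 hgh a (lmW_zero g h _), rfl⟩)
      fun g t => ⟨𝔉.S g t, S_mem_cent ψ 𝔉 ρ1 g t (smW_zero g _), rfl⟩
    set 𝔉3 : Fam Φ.f 1 ↥(C2.map C1.subtype) := (fam3 Φ).restrict _ hP3 hL3 hS3
    let φ : ↥(C2.map C1.subtype) →* ↥C2 :=
      ((C2.equivMapOfInjective C1.subtype C1.subtype_injective).symm).toMonoidHom
    set ρ2 : Representation ℂ ↥(C2.map C1.subtype) _ := (resRep ρ1 (pr Φ.f ψ 𝔉 ρ1 0)).comp φ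
    have hv3 : ρ2 (𝔉3.P (single Φ.f (0, true) 1)) ≠ 1 := fun h1 => by
      refine hD ?_
      have hval : (φ (𝔉3.P (single Φ.f (0, true) 1)) : ↥C1) = 𝔊 := by
        refine Subtype.ext ?_
        have e := congrArg Subtype.val ((C2.equivMapOfInjective C1.subtype C1.subtype_injective).apply_symm_apply
          (𝔉3.P (single Φ.f (0, true) 1)))
        rw [Subgroup.coe_equivMapOfInjective_apply] at e
        exact e.trans (P3_val Φ)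
      have := trace_resRep ρ1 (pr_idem Φ.f ψ 𝔉 ρ1 0) (φ (𝔉3.P (single Φ.f (0, true) 1)))
      rw [show resRep ρ1 (pr Φ.f ψ 𝔉 ρ1 0) (φ (𝔉3.P (single Φ.f (0, true) 1))) = 1 from h1,
        LinearMap.trace_one, hval] at this
      exact this.symm
    have h3 := bound_one (ρ := ρ2) H hψ 𝔉3 hv3
    change _ ≤ (mu Φ.f ψ 𝔉 ρ1 0 : ℤ) at h3
    push_cast at h
    linarith
  · have hm' : (2 : ℤ) ≤ m := by exact_mod_cast hm2
    nlinarith [mul_nonneg (show (0 : ℤ) ≤ m - 2 by linarith)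
      (show (0 : ℤ) ≤ (q : ℤ) ^ 5 - (q : ℤ) ^ 3 + (q : ℤ) ^ 2 - 1 by nlinarith)]

end CfsgLib.TwistESixDegree
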