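import Cfsg.Agent.TwistESixDegree.Shear
import Cfsg.Agent.TwistESixDegree.Low
import Cfsg.Agent.TwistESixDegree.Arith
import Cfsg.Agent.GraphTwist.OrderE6
import Cfsg.Agent.GraphTwist.Perfect

/-!
# Every irreducible representation of `²E₆(q)` of degree at least two has degree at least
`q (q⁶ - q³ + 1) (q⁴ + 1)`

The weights of the centre of the radical give all but at most two dimensions; a degree short of the bound
by one or two would divide a multiple of the order which it does not divide.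
-/

set_option autoImplicit false
set_option linter.unusedSectionVars false

namespace CfsgLib.TwistESixDegree

open Cfsg.Lie CfsgLib.Chevalley CfsgLib.GraphTwist Module CfsgLib.RepBounds
open scoped MatrixGroups

variable {K : Type*} [Field K] [Fintype K] (Φ : FieldTwist setupE6 K) {q : ℕ} (H : FieldData Φ.f q)
  {V : Type*} [AddCommGroup V] [Module ℂ V] [FiniteDimensional ℂ V]
  (ρ : Representation ℂ ↥Φ.tG V)
include H

theorem nine_sub_five_nonneg : (0 : ℤ) ≤ (q : ℤ) ^ 8 - (q : ℤ) ^ 5 - q := by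
  have hq : (2 : ℤ) ≤ q := by exact_mod_cast H.two_le
  have h3 : (8 : ℤ) ≤ (q : ℤ) ^ 3 := by
    have := pow_le_pow_left₀ (by norm_num) hq 3
    norm_num at this
    exact this
  have h5 : (q : ℤ) ≤ (q : ℤ) ^ 5 := by
    calc (q : ℤ) = (q : ℤ) ^ 1 := (pow_one _).symm
      _ ≤ _ := pow_le_pow_right₀ (by linarith) (by norm_num)
  nlinarith [mul_nonneg (pow_nonneg (show (0 : ℤ) ≤ q by linarith) 5) (show (0 : ℤ) ≤ (q : ℤ) ^ 3 - 2 by linarith)]

/-- The bound. -/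
theorem degree_bound_tG [Finite ↥Φ.tG] [IsSimpleGroup ↥Φ.tG] (hqp : IsPrimePow q)
    (hcard : Nat.card ↥Φ.tG ∣ q ^ 36 * (q ^ 2 - 1) * (q ^ 5 + 1) * (q ^ 6 - 1) * (q ^ 8 - 1) *
      (q ^ 9 + 1) * (q ^ 12 - 1))
    [ρ.IsIrreducible] (hk : 2 ≤ finrank ℂ V) : tgt q ≤ finrank ℂ V := by
  classical
  obtain ⟨ψ, hψ⟩ : ∃ ψ : AddChar (Fld Φ.f) ℂ, ψ.IsPrimitive :=
    ⟨_, AddChar.FiniteField.primitiveChar_to_Complex_isPrimitive _⟩
  set 𝔉 := fam1 Φ
  have hker : ∀ g : ↥Φ.tG, ρ g = 1 → g = 1 := fun g hg => by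
    rcases Subgroup.Normal.eq_bot_or_eq_top (inferInstance : (MonoidHom.ker ρ).Normal) with hb | ht
    · exact Subgroup.mem_bot.1 (hb ▸ (hg : g ∈ MonoidHom.ker ρ))
    · obtain ⟨g', hg'⟩ := exists_ne_one ρ inferInstance hk
      exact absurd (show g' ∈ MonoidHom.ker ρ by rw [ht]; trivial) hg'
  have hz : ρ (𝔉.P (single Φ.f (1, true) 1)) ≠ 1 := fun h => by
    have h1 := congrArg Subtype.val (hker _ h)
    rw [GeoData.fam_single_val Φ geo1_ok, move_vals.2.2.2.2.2.1, move_vals.2.2.2.2.2.2.1] at h1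
    have h2 : XE (r6 70) (1 : K) = XE (r6 70) (0 : K) := by
      rw [show XE (r6 70) (0 : K) = (1 : GL chevE6.Idx K) from X_zero _ _]
      simpa using h1
    exact one_ne_zero (X_injective setupE6.good.good _ h2)
  have hq : (2 : ℤ) ≤ q := by exact_mod_cast H.two_le
  have hm0 : (0 : ℤ) ≤ mu Φ.f ψ 𝔉 ρ 0 := Int.natCast_nonneg _
  have ht := tgt_cast (show 1 ≤ q by linarith [H.two_le])
  rw [tgtZ] at ht
  have hd := nine_sub_five_nonneg Φ H
  have h4 : (0 : ℤ) ≤ (q : ℤ) ^ 4 := pow_nonneg (by linarith) 4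
  have h5 : (32 : ℤ) ≤ (q : ℤ) ^ 5 := by
    have := pow_le_pow_left₀ (by norm_num) hq 5
    norm_num at this
    exact this
  rcases step_cases H hψ ρ 𝔉 hz with ⟨w, hw, hq', hpos⟩ | ⟨m, w, hm, hw, hqw, hmu, hE⟩
  · have h := level_bound_int (ρ := ρ) H hψ 𝔉 hw
    rw [(lvl_vals H hq').2.2] at h
    have hge : (q : ℤ) ^ 4 ≤ mu Φ.f ψ 𝔉 ρ w := by exact_mod_cast mu_ge Φ H hψ ρ hw hpos
    have h7 : (0 : ℤ) ≤ (q : ℤ) ^ 7 + (q : ℤ) ^ 3 - 1 := by
      nlinarith [pow_nonneg (show (0 : ℤ) ≤ q by linarith) 3, pow_le_pow_left₀ (by norm_num) hq 7]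
    zify
    nlinarith [mul_nonneg (sub_nonneg.2 hge) h7]
  have hge : q ^ 4 ≤ m := by
    rw [← hmu]
    exact mu_ge Φ H hψ ρ hw (by rw [hmu]; exact hm)
  have h := finrank_exact H hψ hE
  rw [(nSing_vals H).2.2] at h
  rcases lt_or_eq_of_le hge with hlt | heq
  · have hm' : (q : ℤ) ^ 4 + 1 ≤ m := by exact_mod_cast hlt
    have h7 : (0 : ℤ) ≤ (q : ℤ) ^ 7 - (q : ℤ) ^ 4 + (q : ℤ) ^ 3 - 1 := by
      nlinarith [mul_nonneg h4 (show (0 : ℤ) ≤ (q : ℤ) ^ 3 - 1 by nlinarith), pow_le_pow_left₀ (by norm_num) hq 3]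
    zify
    have e3 : (0 : ℤ) ≤ (q : ℤ) ^ 7 - (q : ℤ) ^ 5 - (q : ℤ) ^ 4 + (q : ℤ) ^ 3 - q - 1 := by
      have h2 : (0 : ℤ) ≤ (q : ℤ) ^ 2 - 3 := by nlinarith
      nlinarith [mul_nonneg (show (0 : ℤ) ≤ (q : ℤ) ^ 5 by linarith) h2,
        pow_le_pow_right₀ (show (1 : ℤ) ≤ q by linarith) (show 4 ≤ 5 by norm_num),
        pow_le_pow_right₀ (show (1 : ℤ) ≤ q by linarith) (show 1 ≤ 5 by norm_num)]
    nlinarith [mul_nonneg (sub_nonneg.2 hm') h7]
  subst heq
  have h2 := bound_two Φ H hψ ρ hE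
  rw [Nat.cast_pow] at h
  by_contra hcon
  rw [not_le] at hcon
  have hconZ : (finrank ℂ V : ℤ) < tgt q := by exact_mod_cast hcon
  have hD : finrank ℂ V = tgt q - 1 ∨ finrank ℂ V = tgt q - 2 := by
    have : (tgt q : ℤ) - 2 ≤ finrank ℂ V := by nlinarith
    omega
  -- the degree divides `|G| q¹¹`
  set z := 𝔉.P (single Φ.f (1, true) 1)
  have htr : (finrank ℂ V : ℂ) - ρ.character z = (q : ℂ) ^ 11 := by
    have := trace_coord H hψ (𝔉 := 𝔉) hE (1, true) one_ne_zero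
    rw [show ρ.character z = LinearMap.trace ℂ V (ρ z) from rfl, this]
    push_cast
    ring
  set i := (Subgroup.centralizer ({z} : Set ↥Φ.tG)).index
  have hint := Characters.isIntegral_index_mul_char_div ρ z
  have hdvd : finrank ℂ V ∣ i * q ^ 11 := by
    refine Characters.dvd_of_isIntegral_div (by omega) ?_
    have hn : (finrank ℂ V : ℂ) ≠ 0 := Nat.cast_ne_zero.2 (by omega)
    have e : ((i * q ^ 11 : ℕ) : ℂ) / (finrank ℂ V : ℂ) =
        (i : ℂ) - (i : ℂ) * ρ.character z / (finrank ℂ V : ℂ) := by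
      rw [eq_sub_iff_add_eq, ← add_div, div_eq_iff hn]
      push_cast
      rw [← htr]
      ring
    rw [e]
    exact ((by simpa using isIntegral_algebraMap (R := ℤ) (A := ℂ) (x := (i : ℤ))) :
      IsIntegral ℤ (i : ℂ)).sub hint
  have hbig : finrank ℂ V ∣ bigN q := by
    refine hdvd.trans ((Nat.mul_dvd_mul (Subgroup.index_dvd_card _) dvd_rfl).trans
      ((Nat.mul_dvd_mul hcard dvd_rfl).trans (dvd_of_eq ?_)))
    rw [bigN]
    ring
  rcases hD with h1 | h1 <;> rw [h1] at hbig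
  · exact no_dvd hqp le_rfl (by norm_num) hbig
  · exact no_dvd hqp (by norm_num) le_rfl hbig

omit H

/-- Every irreducible representation of `²E₆(q)` of degree at least two has degree at least
`q (q⁶ - q³ + 1) (q⁴ + 1)`. -/
theorem degree_bound {K : Type*} [Field K] [Fintype K] {q : ℕ} (hq : IsPrimePow q)
    (hK : Fintype.card K = q ^ 2) {V : Type*} [AddCommGroup V] [Module ℂ V] [FiniteDimensional ℂ V]
    (ρ : Representation ℂ ↥(twistedE6 K q) V) (hirr : ρ.IsIrreducible) (hk : 2 ≤ finrank ℂ V) :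
    tgt q ≤ finrank ℂ V := by
  obtain ⟨Φ, e, hf, hfix, -, h4⟩ := twistedE6_eq_tG hq hK
  have hord := natCard_twistedE6 (K := K) hq hK
  suffices h : ∀ L : Subgroup (GL chevE6.Idx K), L = Φ.tG →
      Nat.card ↥L ∣ q ^ 36 * (q ^ 2 - 1) * (q ^ 5 + 1) * (q ^ 6 - 1) * (q ^ 8 - 1) * (q ^ 9 + 1) *
        (q ^ 12 - 1) →
      ∀ σ : Representation ℂ ↥L V, σ.IsIrreducible → tgt q ≤ finrank ℂ V from
    h _ e (Dvd.intro_left _ hord) ρ hirr
  rintro L rfl hcard σ hσ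
  have := (Φ.isSimple setupE6_faithful setupE6_cert h4).1
  have : Finite ↥Φ.tG := inferInstance
  have H : FieldData Φ.f q := ⟨hq.two_le, (Nat.card_eq_fintype_card).trans hK,
    (Nat.card_congr ⟨fun x => ⟨x.1, x.2⟩, fun x => ⟨x.1, x.2⟩, fun _ => rfl, fun _ => rfl⟩).trans hfix,
    hf⟩
  haveI := hσ
  exact degree_bound_tG Φ H σ hq hcard hk

end CfsgLib.TwistESixDegree
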