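import Cfsg.Agent.GraphTwistSub.Field
import Cfsg.Agent.GraphTwist.FamilyE6

/-!
# An abelian set of roots normalised by a root element

The coordinates moved by a root are listed as triples `(source, target, constant)`.
-/

set_option autoImplicit false

namespace CfsgLib.TwistESixDegree

open Cfsg.Lie CfsgLib.Chevalley CfsgLib.GraphTwist
open scoped MatrixGroups

variable {K : Type*} [Field K] {J : Type*} [DecidableEq J] [Fintype J]

/-- A root element of `E₆`. -/
abbrev XE (r : Root chevE6) (t : K) : GL chevE6.Idx K := X setupE6.good.good r t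

theorem comm_nil {p s : Root chevE6} (h1 : s ≠ p) (h2 : s ≠ p.rev)
    (h3 : chevE6.commTerms p s = []) (a u : K) : Commute (XE p a) (XE s u) := by
  have := X_comm setupE6.good.toGoodComm p s h1 h2 a u
  rw [commRhs, h3] at this
  simpa [wordGL, Commute, SemiconjBy] using this.symm

theorem comm_one {p s k : Root chevE6} {c : ℤ} (h1 : s ≠ p) (h2 : s ≠ p.rev)
    (h3 : chevE6.commTerms p s = [((k : ℕ), c, 1, 1)])
    (h4 : p ≠ k ∧ p ≠ k.rev ∧ chevE6.commTerms k p = [])
    (h5 : s ≠ k ∧ s ≠ k.rev ∧ chevE6.commTerms k s = []) (a u : K) :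
    XE p a * XE s u = XE s u * XE k ((c : K) * a * u) * XE p a := by
  have h := X_comm setupE6.good.toGoodComm p s h1 h2 a u
  rw [commRhs, h3] at h
  have e1 : (wordGL setupE6.good.toGoodComm.good (List.map (fun x : ℕ × ℤ × ℕ × ℕ =>
      (x.1, (x.2.1 : K) * (-a) ^ x.2.2.1 * u ^ x.2.2.2)) [((k : ℕ), c, 1, 1)]) : GL chevE6.Idx K) =
      XE k (-((c : K) * a * u)) := by
    rw [List.map_cons, List.map_nil, show ([((k : ℕ), (c : K) * (-a) ^ 1 * u ^ 1)] : List (ℕ × K)) =
      [((k : ℕ), -((c : K) * a * u))] by simp, wordGL_cons]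
    simp [wordGL]
  rw [e1] at h
  have hk : XE k ((c : K) * a * u) * XE p a = XE p a * XE k ((c : K) * a * u) :=
    comm_nil h4.1 h4.2.1 h4.2.2 _ _
  have hks : Commute (XE k ((c : K) * a * u)) (XE s u) := comm_nil h5.1 h5.2.1 h5.2.2 _ _
  have hinv : XE k ((c : K) * a * u) * XE k (-((c : K) * a * u)) = 1 := by
    rw [X_mul, add_neg_cancel, X_zero]
  symm
  calc XE s u * XE k ((c : K) * a * u) * XE p a = XE k ((c : K) * a * u) * (XE s u * XE p a) := by
        rw [← hks.eq, mul_assoc]
    _ = XE k ((c : K) * a * u) * XE p a * XE s u * XE k (-((c : K) * a * u)) := by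
        rw [h]; simp only [mul_assoc]
    _ = XE p a * (XE k ((c : K) * a * u) * XE s u) * XE k (-((c : K) * a * u)) := by
        rw [hk]; simp only [mul_assoc]
    _ = XE p a * XE s u * (XE k ((c : K) * a * u) * XE k (-((c : K) * a * u))) := by
        rw [hks.eq]; simp only [mul_assoc]
    _ = _ := by rw [hinv, mul_one]

/-- The roots commute pairwise. -/
def AbOk (Y : J → Root chevE6) : Prop :=
  ∀ i j, i ≠ j → Y j ≠ Y i ∧ Y j ≠ (Y i).rev ∧ chevE6.commTerms (Y i) (Y j) = []

instance instDecidableAbOk (Y : J → Root chevE6) : Decidable (AbOk Y) :=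
  inferInstanceAs (Decidable (∀ _, _))

theorem AbOk.commute {Y : J → Root chevE6} (h : AbOk Y) :
    Pairwise fun i j => ∀ (x y : Multiplicative K), Commute (XE (Y i) x.toAdd) (XE (Y j) y.toAdd) :=
  fun i j hij x y => comm_nil (h i j hij).1 (h i j hij).2.1 (h i j hij).2.2 _ _

/-- A root element as a homomorphism. -/
def xHom (r : Root chevE6) : Multiplicative K →* GL chevE6.Idx K where
  toFun x := XE r x.toAdd
  map_one' := X_zero _ _
  map_mul' x y := (X_mul _ _ _ _).symm

/-- The group of the coordinates. -/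
def PY {Y : J → Root chevE6} (h : AbOk Y) : AddChar (J → K) (GL chevE6.Idx K) where
  toFun v := MonoidHom.noncommPiCoprod (fun i => xHom (Y i)) h.commute
    fun i => Multiplicative.ofAdd (v i)
  map_zero_eq_one' := map_one
    (MonoidHom.noncommPiCoprod (fun i => xHom (Y i)) h.commute :
      (J → Multiplicative K) →* GL chevE6.Idx K)
  map_add_eq_mul' a b := by rw [← map_mul]; rfl

theorem PY_single {Y : J → Root chevE6} (h : AbOk Y) (i : J) (x : K) :
    PY h (Pi.single i x) = XE (Y i) x := by
  show (MonoidHom.noncommPiCoprod (fun i => xHom (Y i)) h.commute)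
    (fun j => Multiplicative.ofAdd ((Pi.single i x : J → K) j)) = _
  have e : (fun j => Multiplicative.ofAdd ((Pi.single i x : J → K) j)) =
      Pi.mulSingle i (Multiplicative.ofAdd x) := by
    funext j
    by_cases hj : j = i
    · subst hj; simp
    · simp [Pi.single_eq_of_ne hj, Pi.mulSingle_eq_of_ne hj]
  rw [e]
  exact MonoidHom.noncommPiCoprod_mulSingle _ _ _

/-- The action of a root on the coordinates. -/
def dualJ (L : List (J × J × ℤ)) (a : K) (v : J → K) : J → K :=
  fun j => v j + a * ((L.filter fun e => decide (e.2.1 = j)).map fun e => (e.2.2 : K) * v e.1).sum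

theorem dualJ_add (L : List (J × J × ℤ)) (a : K) (u v : J → K) :
    dualJ L a (u + v) = dualJ L a u + dualJ L a v := by
  funext j
  simp only [dualJ, Pi.add_apply, mul_add, List.sum_map_add]
  ring

/-- The triples agree with the commutators of the root. -/
def MvOk (Y : J → Root chevE6) (p : Root chevE6) (L : List (J × J × ℤ)) : Prop :=
  ∀ i, Y i ≠ p ∧ Y i ≠ p.rev ∧ (L.filter fun e => decide (e.1 = i)).length ≤ 1 ∧
    chevE6.commTerms p (Y i) =
      ((L.filter fun e => decide (e.1 = i)).map fun e => ((Y e.2.1 : ℕ), e.2.2, 1, 1)) ∧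
    ∀ e ∈ L.filter (fun e => decide (e.1 = i)), p ≠ Y e.2.1 ∧ p ≠ (Y e.2.1).rev ∧
      chevE6.commTerms (Y e.2.1) p = [] ∧ i ≠ e.2.1

instance instDecidableMvOk (Y : J → Root chevE6) (p : Root chevE6) (L : List (J × J × ℤ)) :
    Decidable (MvOk Y p L) := inferInstanceAs (Decidable (∀ _, _))

/-- Conjugation of the coordinates by a root element. -/
theorem conj_PY {Y : J → Root chevE6} (h : AbOk Y) {p : Root chevE6} {L : List (J × J × ℤ)}
    (hM : MvOk Y p L) (a : K) (v : J → K) : XE p a * PY h v = PY h (dualJ L a v) * XE p a := by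
  rw [← Finset.univ_sum_single v]
  generalize (Finset.univ : Finset J) = s
  induction s using Finset.induction with
  | empty =>
    have e : dualJ L a (0 : J → K) = 0 := by funext j; simp [dualJ]
    rw [Finset.sum_empty, e, AddChar.map_zero_eq_one, one_mul, mul_one]
  | insert i s hi ih =>
    have key : ∀ q : List (J × J × ℤ), ∀ l, (((q.filter fun e => decide (e.2.1 = l))).map
          fun e => (e.2.2 : K) * (Pi.single i (v i) : J → K) e.1).sum =
        (((q.filter fun e => decide (e.1 = i)).filter fun e => decide (e.2.1 = l)).map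
          fun e => (e.2.2 : K) * v i).sum := by
      intro q l
      induction q with
      | nil => rfl
      | cons e q ih' =>
        by_cases h1 : e.2.1 = l <;> by_cases h2 : e.1 = i
        · simp [List.filter_cons, h1, h2, ih', show (Pi.single i (v i) : J → K) e.1 = v i by rw [h2, Pi.single_eq_same]]
        all_goals simp [List.filter_cons, h1, h2, ih']
    have hone : XE p a * PY h (Pi.single i (v i)) =
        PY h (dualJ L a (Pi.single i (v i))) * XE p a := by
      obtain ⟨n1, n2, hlen, hc, hcom⟩ := hM i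
      rcases hl : L.filter (fun e => decide (e.1 = i)) with _ | ⟨e, l⟩
      · rw [hl] at hc
        have e0 : dualJ L a (Pi.single i (v i)) = Pi.single i (v i) := by
          funext j; rw [dualJ, key, hl]; simp
        rw [e0, PY_single h]
        exact comm_nil n1 n2 hc a (v i)
      · rw [hl] at hlen hc hcom
        obtain rfl : l = [] := List.length_eq_zero_iff.1 (by simp at hlen; simpa using hlen)
        obtain ⟨m1, m2, m3, m4⟩ := hcom e (List.mem_singleton_self _)
        have e1 : dualJ L a (Pi.single i (v i)) =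
            Pi.single i (v i) + Pi.single e.2.1 (a * ((e.2.2 : K) * v i)) := by
          funext j
          rw [dualJ, key, hl, Pi.add_apply]
          by_cases hj : e.2.1 = j
          · subst hj; simp
          · simp [hj, Pi.single_eq_of_ne (Ne.symm hj)]
        obtain ⟨-, -, h6⟩ := h e.2.1 i (Ne.symm m4)
        rw [e1, AddChar.map_add_eq_mul, PY_single h, PY_single h,
          comm_one n1 n2 (by simpa using hc) ⟨m1, m2, m3⟩
            ⟨(h e.2.1 i (Ne.symm m4)).1, (h e.2.1 i (Ne.symm m4)).2.1, h6⟩,
          show (e.2.2 : K) * a * v i = a * ((e.2.2 : K) * v i) by ring]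
    rw [Finset.sum_insert hi, AddChar.map_add_eq_mul, ← mul_assoc, hone, mul_assoc, ih, ← mul_assoc,
      ← AddChar.map_add_eq_mul, ← dualJ_add]

theorem eqX_of_fixed {Φ : FieldTwist setupE6 K} {r : Root chevE6} (h : setupE6.σR r = r) (t : K) :
    Φ.oX r t = XE r t := Φ.oX_eq_X h t

theorem oX_two (Φ : FieldTwist setupE6 K) {r : Root chevE6} (h : setupE6.σR r ≠ r) (t : K) :
    Φ.oX r t = XE r t * XE (setupE6.σR r) ((setupE6.cfg.S.sgn r : K) * Φ.f t) := by
  have hk : setupE6.cfg.k = 2 := rfl
  rw [FieldTwist.oX, setupE6.osize_eq, if_neg h, hk]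
  simp [List.range_succ, FieldTwist.Ψ_X]

end CfsgLib.TwistESixDegree
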