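import Cfsg.Agent.TwistESixDegree.Minus

/-!
# The number of vectors with a given value of the form of minus type
-/

set_option autoImplicit false

namespace CfsgLib.TwistESixDegree

variable {K : Type*} [Field K] [Finite K] (σ : K ≃+* K) [hσ : Fact (∀ x : K, σ (σ x) = x)]
  {q : ℕ} (hq : 2 ≤ q) (hK : Nat.card K = q ^ 2) (hfix : Nat.card (Fld σ) = q) (hfr : ∀ x, σ x = x ^ q)

/-- The norm on the units. -/
def nmU : Kˣ →* (Fld σ)ˣ where
  toFun x := Units.mk0 (nm σ x) fun h => x.ne_zero (by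
    have h' := congrArg (fun s : Fld σ => (s : K)) h
    simpa using h')
  map_one' := Units.ext (Subtype.ext (by simp))
  map_mul' x y := Units.ext (Subtype.ext (by simp; ring))

include hK hfr in
theorem card_ker_nmU : Nat.card (nmU σ).ker = q + 1 := by
  haveI : Fintype K := Fintype.ofFinite K
  have e : (nmU σ).ker = (powMonoidHom (q + 1) : Kˣ →* Kˣ).ker := by
    ext x
    simp [nmU, Units.ext_iff, Subtype.ext_iff, hfr, pow_succ, mul_comm]
  rw [e, IsCyclic.card_powMonoidHom_ker, Nat.card_units, hK]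
  refine Nat.gcd_eq_right ⟨q - 1, ?_⟩
  simpa using Nat.sq_sub_sq q 1

include hq hK hfix hfr in
theorem nmU_surj : Function.Surjective (nmU σ) := by
  rw [← MonoidHom.range_eq_top]
  refine Subgroup.eq_top_of_card_eq _ ?_
  have h1 := Subgroup.index_mul_card (nmU σ).ker
  rw [Subgroup.index_ker, card_ker_nmU σ hK hfr, Nat.card_units, hK,
    show q ^ 2 - 1 = (q + 1) * (q - 1) by simpa using Nat.sq_sub_sq q 1, mul_comm (q + 1)] at h1
  rw [Nat.eq_of_mul_eq_mul_right (by omega) h1, Nat.card_units, hfix]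

include hq hK hfix hfr in
theorem nm_surj (s : Fld σ) : ∃ x : K, nm σ x = s := by
  by_cases hs : s = 0
  · exact ⟨0, by subst hs; exact Subtype.ext (by simp)⟩
  · obtain ⟨x, hx⟩ := nmU_surj σ hq hK hfix hfr (Units.mk0 s hs)
    exact ⟨x, congrArg Units.val hx⟩

include hq hK hfix hfr in
theorem card_nm_fibre {s : Fld σ} (hs : s ≠ 0) : Nat.card {x : K // nm σ x = s} = q + 1 := by
  obtain ⟨x, hx⟩ := nmU_surj σ hq hK hfix hfr (Units.mk0 s hs)
  have hn : ∀ y : K, nm σ y = s → y ≠ 0 := fun y hy h0 => hs (by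
    subst h0; rw [← hy]; exact Subtype.ext (by simp))
  rw [← card_ker_nmU σ hK hfr]
  refine Nat.card_congr
    ⟨fun y => ⟨Units.mk0 y.1 (hn _ y.2) * x⁻¹, ?_⟩,
      fun z => ⟨((z.1 * x : Kˣ) : K), ?_⟩, fun y => ?_, fun z => ?_⟩
  · rw [MonoidHom.mem_ker, map_mul, map_inv, hx, mul_inv_eq_one]
    exact Units.ext y.2
  · have : nmU σ (z.1 * x) = Units.mk0 s hs := by rw [map_mul, z.2, one_mul, hx]
    exact congrArg Units.val this
  · exact Subtype.ext (by simp)
  · exact Subtype.ext (Units.ext (by simp))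

variable {k : ℕ}

/-- Splitting off the first plane. -/
def splitEquiv : MS σ (k + 1) ≃ Fld σ × Fld σ × MS σ k where
  toFun w := (w.1 (0, true), w.1 (0, false), (fun h => w.1 (h.1.succ, h.2), w.2))
  invFun p := (fun h => Fin.cases (if h.2 then p.1 else p.2.1) (fun i => p.2.2.1 (i, h.2)) h.1, p.2.2.2)
  left_inv w := by
    refine Prod.ext (funext fun ⟨i, b⟩ => ?_) rfl
    refine Fin.cases ?_ (fun i => rfl) i
    cases b <;> rfl
  right_inv _ := rfl

omit [Finite K] in
theorem qf_split (w : MS σ (k + 1)) :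
    qf σ w = (splitEquiv σ w).1 * (splitEquiv σ w).2.1 + qf σ (splitEquiv σ w).2.2 := by
  rw [qf, qf, Fin.sum_univ_succ, add_assoc]
  rfl

include hK hfix in
omit hσ in
theorem card_MS : Nat.card (MS σ k) = q ^ (2 * k + 2) := by
  haveI : Fintype K := Fintype.ofFinite K
  haveI : Fintype (Fld σ) := Fintype.ofFinite _
  rw [Nat.card_prod, Nat.card_fun, hfix, hK, Nat.card_eq_fintype_card (α := Hx k), Fintype.card_prod,
    Fintype.card_fin, Fintype.card_bool, ← pow_add, mul_comm k]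

/-- The vectors of a value. -/
abbrev Lvl (k : ℕ) (ν : Fld σ) : Type _ := {w : MS σ k // qf σ w = ν}

include hK hfix in
theorem card_Lvl_succ (ν : Fld σ) :
    Nat.card (Lvl σ (k + 1) ν) = (q - 1) * q ^ (2 * k + 2) + q * Nat.card (Lvl σ k ν) := by
  classical
  haveI : Fintype K := Fintype.ofFinite K
  haveI : Fintype (Fld σ) := Fintype.ofFinite _
  let e : Lvl σ (k + 1) ν ≃ Σ a : Fld σ, {p : Fld σ × MS σ k // a * p.1 + qf σ p.2 = ν} :=
    ((splitEquiv σ).subtypeEquiv fun w => by rw [qf_split σ w]).trans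
      (Equiv.subtypeProdEquivSigmaSubtype fun a (p : Fld σ × MS σ k) => a * p.1 + qf σ p.2 = ν)
  rw [Nat.card_congr e, Nat.card_sigma, ← Finset.add_sum_erase _ _ (Finset.mem_univ (0 : Fld σ)),
    Finset.sum_congr rfl fun a ha => (?_ : _ = Nat.card (MS σ k)), Finset.sum_const,
    Finset.card_erase_of_mem (Finset.mem_univ _), Finset.card_univ, ← Nat.card_eq_fintype_card,
    hfix, card_MS σ hK hfix, smul_eq_mul, add_comm]
  · congr 1
    rw [← hfix, ← Nat.card_prod]
    exact Nat.card_congr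
      ⟨fun p => (p.1.1, ⟨p.1.2, by simpa using p.2⟩), fun p => ⟨(p.1, p.2.1), by simpa using p.2.2⟩,
        fun _ => rfl, fun _ => rfl⟩
  · have ha0 : a ≠ 0 := (Finset.mem_erase.1 ha).1
    exact Nat.card_congr
      ⟨fun p => p.1.2, fun r => ⟨((ν - qf σ r) / a, r), by field_simp; ring⟩,
        fun p => Subtype.ext (Prod.ext (by
          show (ν - qf σ p.1.2) / a = p.1.1
          rw [div_eq_iff ha0]
          linear_combination -p.2) rfl),
        fun _ => rfl⟩

theorem qf_zero_MS (w : MS σ 0) : qf σ w = nm σ w.2 := by simp [qf]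

/-- Vectors without planes. -/
def lvlZeroEquiv (ν : Fld σ) : Lvl σ 0 ν ≃ {x : K // nm σ x = ν} where
  toFun w := ⟨w.1.2, by rw [← qf_zero_MS]; exact w.2⟩
  invFun x := ⟨(fun _ => 0, x.1), by rw [qf_zero_MS]; exact x.2⟩
  left_inv w := Subtype.ext (Prod.ext (funext fun h => h.1.elim0) rfl)
  right_inv _ := rfl

theorem card_Lvl_zero_zero : Nat.card (Lvl σ 0 0) = 1 := by
  rw [Nat.card_congr (lvlZeroEquiv σ 0), Nat.card_eq_one_iff_unique]
  refine ⟨⟨fun a b => Subtype.ext ?_⟩, ⟨⟨0, Subtype.ext (by simp)⟩⟩⟩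
  have h : ∀ x : {x : K // nm σ x = 0}, x.1 = 0 := fun x => by
    have := congrArg (fun s : Fld σ => (s : K)) x.2
    simpa using this
  rw [h a, h b]

include hq hK hfix hfr in
theorem card_Lvl_zero {ν : Fld σ} (hν : ν ≠ 0) : Nat.card (Lvl σ 0 ν) = q + 1 := by
  rw [Nat.card_congr (lvlZeroEquiv σ ν), card_nm_fibre σ hq hK hfix hfr hν]

include hK hfix in
theorem card_Lvl_fst (ν a : Fld σ) (ha : a ≠ 0) :
    Nat.card {w : Lvl σ (k + 1) ν // w.1.1 j0 = a} = q ^ (2 * k + 2) := by
  rw [← card_MS σ hK hfix (k := k)]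
  exact Nat.card_congr
    ⟨fun w => (splitEquiv σ w.1.1).2.2,
      fun r => ⟨⟨(splitEquiv σ).symm (a, (ν - qf σ r) / a, r), by
        rw [qf_split, Equiv.apply_symm_apply]
        field_simp
        ring⟩, rfl⟩,
      fun w => Subtype.ext (Subtype.ext ((Equiv.symm_apply_eq _).2 (by
        refine Prod.ext w.2.symm (Prod.ext ?_ rfl)
        show (ν - qf σ (splitEquiv σ w.1.1).2.2) / a = (splitEquiv σ w.1.1).2.1
        have h1 : (splitEquiv σ w.1.1).1 * (splitEquiv σ w.1.1).2.1 +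
            qf σ (splitEquiv σ w.1.1).2.2 = ν := by rw [← qf_split]; exact w.1.2
        have h2 : (splitEquiv σ w.1.1).1 = a := w.2
        rw [h2] at h1
        rw [div_eq_iff ha]
        linear_combination -h1))),
      fun r => by
        show (splitEquiv σ ((splitEquiv σ).symm _)).2.2 = r
        rw [Equiv.apply_symm_apply]⟩

end CfsgLib.TwistESixDegree
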