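import Cfsg.Agent.TwistESixDegree.Trace

/-!
# The trace defect of a move on the fixed space

The move between the first two planes has the trace of a coordinate element; as its traces on the
weight spaces it fixes take only two values, it cannot be trivial on the fixed space.
-/

set_option autoImplicit false
set_option linter.unusedSectionVars false
set_option maxHeartbeats 400000

namespace CfsgLib.TwistESixDegree

open Module CfsgLib.RepBounds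
open scoped Classical

variable {K : Type*} [Field K] [Fintype K] {σ : K ≃+* K} [hσ : Fact (∀ x : K, σ (σ x) = x)] {q : ℕ}
  {k : ℕ}

/-- The source of the move. -/
abbrev pT0 : Hx (k + 2) := (0, true)

/-- The other source of the move. -/
abbrev pT1 : Hx (k + 2) := (1, true)

/-- A target of the move. -/
abbrev pF0 : Hx (k + 2) := (0, false)

/-- The other target of the move. -/
abbrev pF1 : Hx (k + 2) := (1, false)

/-- A coordinate away from the first two planes. -/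
abbrev up2 (h : Hx k) : Hx (k + 2) := (h.1.succ.succ, h.2)

/-- The vectors fixed by the move. -/
def emb (b0 b1 : Fld σ) (r : MS σ k) : MS σ (k + 2) :=
  (fun i => Fin.cases (if i.2 then 0 else b0)
    (fun j => Fin.cases (if i.2 then 0 else b1) (fun l => r.1 (l, i.2)) j) i.1, r.2)

theorem emb_pT (b0 b1 : Fld σ) (r : MS σ k) :
    (emb b0 b1 r).1 pT0 = 0 ∧ (emb b0 b1 r).1 pT1 = 0 := ⟨rfl, rfl⟩

theorem emb_eval (b0 b1 : Fld σ) (r : MS σ k) :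
    (∀ b, (emb b0 b1 r).1 (0, b) = if b then 0 else b0) ∧
    (∀ b, (emb b0 b1 r).1 (1, b) = if b then 0 else b1) ∧
    ∀ l b, (emb b0 b1 r).1 (Fin.succ (Fin.succ l), b) = r.1 (l, b) :=
  ⟨fun _ => rfl, fun _ => rfl, fun _ _ => rfl⟩

theorem emb_snd (b0 b1 : Fld σ) (r : MS σ k) : (emb b0 b1 r).2 = r.2 := rfl

theorem qf_emb (b0 b1 : Fld σ) (r : MS σ k) : qf σ (emb b0 b1 r) = qf σ r := by
  rw [qf, qf, Fin.sum_univ_succ, Fin.sum_univ_succ]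
  show (0 : Fld σ) * b0 + ((0 : Fld σ) * b1 + _) + _ = _
  rw [zero_mul, zero_mul, zero_add, zero_add]
  rfl

theorem emb_zero : emb 0 0 (0 : MS σ k) = 0 := by
  refine Prod.ext (funext fun ⟨i, b⟩ => ?_) rfl
  refine Fin.cases ?_ (fun j => ?_) i
  · cases b <;> rfl
  · refine Fin.cases ?_ (fun l => rfl) j
    cases b <;> rfl

/-- The fixed singular vectors. -/
def embEquiv : Fld σ × Fld σ × Lvl σ k 0 ≃
    {w : Lvl σ (k + 2) 0 // w.1.1 pT0 = 0 ∧ w.1.1 pT1 = 0} where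
  toFun p := ⟨⟨emb p.1 p.2.1 p.2.2.1, by rw [qf_emb]; exact p.2.2.2⟩, emb_pT _ _ _⟩
  invFun w := (w.1.1.1 pF0, w.1.1.1 pF1, ⟨(fun h => w.1.1.1 (up2 h), w.1.1.2), by
    have h := w.1.2
    rw [qf, Fin.sum_univ_succ, Fin.sum_univ_succ, show w.1.1.1 (0, true) = 0 from w.2.1,
      show w.1.1.1 ((0 : Fin (k + 1)).succ, true) = 0 from w.2.2, zero_mul, zero_mul, zero_add,
      zero_add] at h
    exact h⟩)
  left_inv p := rfl
  right_inv w := by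
    refine Subtype.ext (Subtype.ext (Prod.ext (funext fun ⟨i, b⟩ => ?_) rfl))
    refine Fin.cases ?_ (fun j => ?_) i
    · cases b
      · rfl
      · exact w.2.1.symm
    · refine Fin.cases ?_ (fun l => rfl) j
      cases b
      · rfl
      · exact w.2.2.symm

variable {G : Type*} [Group G] {V : Type*} [AddCommGroup V] [Module ℂ V] [FiniteDimensional ℂ V]

/-- The moves needed for the transitivity commute with the move. -/
structure CommOk (𝔉 : Fam σ (k + 2) G) (x : G) : Prop where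
  f01 : ∀ a, Commute x (𝔉.L pF0 pF1 a)
  f10 : ∀ a, Commute x (𝔉.L pF1 pF0 a)
  shift : ∀ (i : Hx k) a, Commute x (𝔉.L (up2 i) pF0 a) ∧ Commute x (𝔉.L (up2 i) pF1 a)
  inner : ∀ (g h : Hx k) a, g.1 ≠ h.1 → Commute x (𝔉.L (up2 g) (up2 h) a)
  short : ∀ (i : Hx k) t, Commute x (𝔉.S (up2 i) t)

variable (ψ : AddChar (Fld σ) ℂ) (𝔉 : Fam σ (k + 2) G) (ρ : Representation ℂ G V)

/-- The trace of an element on a weight space. -/
noncomputable def trW (x : G) (w : MS σ (k + 2)) : ℂ :=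
  LinearMap.trace ℂ V (ρ x * pr σ ψ 𝔉 ρ w)

theorem trW_conj {x u : G} (hc : Commute x u) {w w' : MS σ (k + 2)}
    (h : ρ u * pr σ ψ 𝔉 ρ w = pr σ ψ 𝔉 ρ w' * ρ u) : trW ψ 𝔉 ρ x w' = trW ψ 𝔉 ρ x w := by
  have e : ρ x * ρ u = ρ u * ρ x := by rw [← map_mul, hc.eq, map_mul]
  have e' : pr σ ψ 𝔉 ρ w' = ρ u * pr σ ψ 𝔉 ρ w * ρ u⁻¹ := by
    rw [h, mul_assoc, ← map_mul, mul_inv_cancel, map_one, mul_one]
  rw [trW, trW, e', ← mul_assoc, ← mul_assoc, e, mul_assoc (ρ u), trace_conj ρ u]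

theorem trW_lm {x : G} {g h : Hx (k + 2)} (hgh : g.1 ≠ h.1) (a : Fld σ) (hc : Commute x (𝔉.L g h (-a)))
    (w : MS σ (k + 2)) : trW ψ 𝔉 ρ x (lmW σ g h a w) = trW ψ 𝔉 ρ x w := by
  have h1 := L_pr σ ψ 𝔉 ρ hgh (-a) w
  rw [neg_neg] at h1
  exact trW_conj ψ 𝔉 ρ hc h1

theorem trW_sm {x : G} (g : Hx (k + 2)) (t : K) (hc : Commute x (𝔉.S g (-t)))
    (w : MS σ (k + 2)) : trW ψ 𝔉 ρ x (smW σ g t w) = trW ψ 𝔉 ρ x w := by
  have h1 := S_pr σ ψ 𝔉 ρ g (-t) w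
  rw [neg_neg] at h1
  exact trW_conj ψ 𝔉 ρ hc h1

theorem lm_f01 (a b0 b1 : Fld σ) (r : MS σ k) :
    lmW σ pF0 pF1 a (emb b0 b1 r) = emb b0 (b1 + a * b0) r := by
  obtain ⟨e0, e1, e2⟩ := emb_eval b0 b1 r
  refine Prod.ext (funext fun ⟨i, b⟩ => ?_) rfl
  obtain rfl | ⟨j, rfl⟩ := Fin.eq_zero_or_eq_succ i
  · cases b <;> simp [lmW, mate, up2, emb_snd, e0, e1, e2, (emb_eval _ _ _).1, Fin.ext_iff]
  · obtain rfl | ⟨l, rfl⟩ := Fin.eq_zero_or_eq_succ j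
    · cases b <;> simp [lmW, mate, up2, emb_snd, e0, e1, e2, (emb_eval _ _ _).2.1, Fin.ext_iff]
    · simp [lmW, mate, up2, emb_snd, e0, e1, e2, (emb_eval _ _ _).2.2, Fin.succ_succ_ne_one, Fin.succ_ne_zero]

theorem lm_f10 (a b0 b1 : Fld σ) (r : MS σ k) :
    lmW σ pF1 pF0 a (emb b0 b1 r) = emb (b0 + a * b1) b1 r := by
  obtain ⟨e0, e1, e2⟩ := emb_eval b0 b1 r
  refine Prod.ext (funext fun ⟨i, b⟩ => ?_) rfl
  obtain rfl | ⟨j, rfl⟩ := Fin.eq_zero_or_eq_succ i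
  · cases b <;> simp [lmW, mate, up2, emb_snd, e0, e1, e2, (emb_eval _ _ _).1, Fin.ext_iff]
  · obtain rfl | ⟨l, rfl⟩ := Fin.eq_zero_or_eq_succ j
    · cases b <;> simp [lmW, mate, up2, emb_snd, e0, e1, e2, (emb_eval _ _ _).2.1, Fin.ext_iff]
    · simp [lmW, mate, up2, emb_snd, e0, e1, e2, (emb_eval _ _ _).2.2, Fin.succ_succ_ne_one, Fin.succ_ne_zero]

theorem lm_inner (g h : Hx k) (a b0 b1 : Fld σ) (r : MS σ k) :
    lmW σ (up2 g) (up2 h) a (emb b0 b1 r) = emb b0 b1 (lmW σ g h a r) := by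
  obtain ⟨e0, e1, e2⟩ := emb_eval b0 b1 r
  refine Prod.ext (funext fun ⟨i, b⟩ => ?_) rfl
  obtain rfl | ⟨j, rfl⟩ := Fin.eq_zero_or_eq_succ i
  · cases b <;> simp [lmW, mate, up2, emb_snd, e0, e1, e2, (emb_eval _ _ _).1, Fin.ext_iff]
  · obtain rfl | ⟨l, rfl⟩ := Fin.eq_zero_or_eq_succ j
    · cases b <;> simp [lmW, mate, up2, emb_snd, e0, e1, e2, (emb_eval _ _ _).2.1, Fin.ext_iff]
    · simp [lmW, mate, up2, emb_snd, e0, e1, e2, (emb_eval _ _ _).2.2, Fin.ext_iff, Prod.ext_iff]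

theorem sm_up2 (g : Hx k) (t : K) (b0 b1 : Fld σ) (r : MS σ k) :
    smW σ (up2 g) t (emb b0 b1 r) = emb b0 b1 (smW σ g t r) := by
  obtain ⟨e0, e1, e2⟩ := emb_eval b0 b1 r
  refine Prod.ext (funext fun ⟨i, b⟩ => ?_) (by simp [smW, emb_snd, (emb_eval b0 b1 r).2.2])
  obtain rfl | ⟨j, rfl⟩ := Fin.eq_zero_or_eq_succ i
  · cases b <;> simp [smW, mate, up2, emb_snd, e0, e1, e2, (emb_eval _ _ _).1, Fin.ext_iff]
  · obtain rfl | ⟨l, rfl⟩ := Fin.eq_zero_or_eq_succ j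
    · cases b <;> simp [smW, mate, up2, emb_snd, e0, e1, e2, (emb_eval _ _ _).2.1, Fin.ext_iff]
    · simp [smW, mate, up2, emb_snd, e0, e1, e2, (emb_eval _ _ _).2.2, Fin.ext_iff, Prod.ext_iff]

variable {𝔉} {x : G} (hC : CommOk 𝔉 x)
include hC

theorem trW_plane {b0 b1 : Fld σ} (r : MS σ k) (hb : b0 ≠ 0 ∨ b1 ≠ 0) :
    trW ψ 𝔉 ρ x (emb b0 b1 r) = trW ψ 𝔉 ρ x (emb 1 0 r) := by
  have h01 : ∀ a c0 c1, trW ψ 𝔉 ρ x (emb c0 (c1 + a * c0) r) = trW ψ 𝔉 ρ x (emb c0 c1 r) := fun a c0 c1 => by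
    rw [← lm_f01]
    exact trW_lm ψ 𝔉 ρ (by simp) a (hC.f01 _) _
  have h10 : ∀ a c0 c1, trW ψ 𝔉 ρ x (emb (c0 + a * c1) c1 r) = trW ψ 𝔉 ρ x (emb c0 c1 r) := fun a c0 c1 => by
    rw [← lm_f10]
    exact trW_lm ψ 𝔉 ρ (by simp) a (hC.f10 _) _
  have key : ∀ c0 : Fld σ, c0 ≠ 0 → ∀ c1, trW ψ 𝔉 ρ x (emb c0 c1 r) = trW ψ 𝔉 ρ x (emb 1 0 r) := by
    intro c0 hc0 c1
    rw [← h01 ((1 - c1) / c0) c0 c1, div_mul_cancel₀ _ hc0, add_sub_cancel,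
      ← h10 (1 - c0) c0 1, mul_one, add_sub_cancel, ← h01 (-1) 1 1, mul_one, add_neg_cancel]
  by_cases h0 : b0 = 0
  · subst h0
    have h1 : b1 ≠ 0 := hb.resolve_left fun h => h rfl
    rw [← h10 (1 / b1) 0 b1, zero_add, div_mul_cancel₀ _ h1]
    exact key 1 one_ne_zero b1
  · exact key b0 h0 b1

theorem trW_emb_conn {b0 b1 : Fld σ} {r r' : MS σ k} (h : Conn σ r r') :
    trW ψ 𝔉 ρ x (emb b0 b1 r) = trW ψ 𝔉 ρ x (emb b0 b1 r') := by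
  refine ((h (fun s => trW ψ 𝔉 ρ x (emb b0 b1 s) = trW ψ 𝔉 ρ x (emb b0 b1 r))
    ⟨fun g g' hg a s => ?_, fun g t s => ?_⟩).1 rfl).symm
  · dsimp only; rw [← lm_inner, trW_lm ψ 𝔉 ρ (fun e => hg (Fin.succ_injective _ (Fin.succ_injective _ e))) a
      (hC.inner _ _ _ hg)]
  · dsimp only; rw [← sm_up2, trW_sm ψ 𝔉 ρ _ t (hC.short _ _)]

omit hC

variable (H : FieldData σ q) {ψ} (hψ : ψ.IsPrimitive)
include H hψ

theorem trW_moved {w : MS σ (k + 2)} (hw : ¬ (w.1 pT0 = 0 ∧ w.1 pT1 = 0)) :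
    trW ψ 𝔉 ρ (𝔉.L pT0 pF1 1) w = 0 := by
  have hne : lmW σ pT0 pF1 (-1) w ≠ w := fun h => hw ⟨by
    have := congrArg (fun v : MS σ (k + 2) => v.1 pF1) h
    simpa [lmW] using this, by
    have := congrArg (fun v : MS σ (k + 2) => v.1 pF0) h
    simpa [lmW, mate, Fin.ext_iff] using this⟩
  rw [trW, ← pr_idem σ ψ 𝔉 ρ w, ← mul_assoc, LinearMap.trace_mul_comm,
    L_pr σ ψ 𝔉 ρ (show (pT0 : Hx (k + 2)).1 ≠ (pF1 : Hx (k + 2)).1 by simp) 1 w, ← mul_assoc,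
    pr_orth H hψ 𝔉 ρ hne.symm, zero_mul, map_zero]

/-- The defect of the move, given the two values of the traces on fixed weight spaces. -/
theorem defect_eq {m : ℕ} (hE : Exact ψ 𝔉 ρ m) {Ta Tb : ℂ}
    (hTa : ∀ b0 b1, (b0 ≠ 0 ∨ b1 ≠ 0) → trW ψ 𝔉 ρ (𝔉.L pT0 pF1 1) (emb b0 b1 0) = Ta)
    (hTb : ∀ b0 b1 r, r ≠ 0 → qf σ r = 0 → trW ψ 𝔉 ρ (𝔉.L pT0 pF1 1) (emb b0 b1 r) = Tb)
    {h : Hx (k + 2)} {s : Fld σ} (hs : s ≠ 0)
    (hadj : LinearMap.trace ℂ V (ρ (𝔉.L pT0 pF1 1)) = LinearMap.trace ℂ V (ρ (𝔉.P (single σ h s)))) :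
    ((mu σ ψ 𝔉 ρ 0 : ℂ) - trW ψ 𝔉 ρ (𝔉.L pT0 pF1 1) 0) + ((q : ℂ) ^ 2 - 1) * ((m : ℂ) - Ta) +
      (q : ℂ) ^ 2 * ((nSing σ k : ℂ) - 1) * ((m : ℂ) - Tb) = (m : ℂ) * (q : ℂ) ^ (2 * k + 3) := by
  set x := 𝔉.L pT0 pF1 1 with hx
  set n := finrank ℂ V
  have h1 := trace_coord H hψ hE h hs
  rw [← hadj] at h1
  -- the trace as a sum over weight spaces
  have h2 : LinearMap.trace ℂ V (ρ x) = ∑ w, trW ψ 𝔉 ρ x w := by
    simp only [trW]
    rw [← map_sum, ← Finset.mul_sum, sum_pr H hψ, mul_one]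
  have hzero : ∀ w, w ≠ 0 → qf σ w ≠ 0 → trW ψ 𝔉 ρ x w = 0 := fun w hw hq => by
    have := hE w hw
    rw [if_neg hq] at this
    rw [trW, eq_zero_of_rnk this, mul_zero, map_zero]
  let T : Finset (MS σ (k + 2)) := Finset.univ.filter fun w => qf σ w = 0 ∧ (w.1 pT0 = 0 ∧ w.1 pT1 = 0)
  have h3 : ∑ w, trW ψ 𝔉 ρ x w = ∑ w ∈ T, trW ψ 𝔉 ρ x w := by
    refine (Finset.sum_subset (Finset.subset_univ T) fun w _ hw => ?_).symm
    simp only [T, Finset.mem_filter, Finset.mem_univ, true_and] at hw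
    by_cases hq : qf σ w = 0
    · exact trW_moved ρ H hψ fun hf => hw ⟨hq, hf⟩
    · exact hzero w (fun h0 => hq (by rw [h0]; exact Subtype.ext (by simp [qf]))) hq
  have h4 : ∑ w ∈ T, trW ψ 𝔉 ρ x w =
      ∑ p : Fld σ × Fld σ × Lvl σ k 0, trW ψ 𝔉 ρ x (emb p.1 p.2.1 p.2.2.1) := by
    rw [Finset.sum_subtype T (p := fun w => qf σ w = 0 ∧ (w.1 pT0 = 0 ∧ w.1 pT1 = 0)) (fun w => by simp [T])]
    symm
    refine Finset.sum_bij (fun p _ => ⟨emb p.1 p.2.1 p.2.2.1,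
      (qf_emb _ _ _).trans p.2.2.2, emb_pT _ _ _⟩) (fun _ _ => Finset.mem_univ _) ?_ ?_ (fun _ _ => rfl)
    · intro a _ b _ hab
      refine embEquiv.injective (Subtype.ext (Subtype.ext ?_))
      show emb a.1 a.2.1 a.2.2.1 = emb b.1 b.2.1 b.2.2.1
      exact congrArg Subtype.val hab
    · intro w _
      obtain ⟨p, hp⟩ := embEquiv.surjective ⟨⟨w.1, w.2.1⟩, w.2.2⟩
      refine ⟨p, Finset.mem_univ _, Subtype.ext ?_⟩
      exact congrArg (fun v => v.1.1) hp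
  have hqf0 : qf σ (0 : MS σ k) = 0 := Subtype.ext (by simp [qf])
  set z : Lvl σ k 0 := ⟨0, hqf0⟩
  have h5 : ∑ p : Fld σ × Fld σ × Lvl σ k 0, trW ψ 𝔉 ρ x (emb p.1 p.2.1 p.2.2.1) =
      trW ψ 𝔉 ρ x 0 + ((q : ℂ) ^ 2 - 1) * Ta + (q : ℂ) ^ 2 * ((nSing σ k : ℂ) - 1) * Tb := by
    have e : ∀ b0 b1 : Fld σ, ∑ r : Lvl σ k 0, trW ψ 𝔉 ρ x (emb b0 b1 r.1) =
        trW ψ 𝔉 ρ x (emb b0 b1 0) + ((nSing σ k : ℂ) - 1) * Tb := fun b0 b1 => by
      rw [← Finset.add_sum_erase _ _ (Finset.mem_univ z), Finset.sum_congr rfl fun r hr =>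
        hTb b0 b1 r.1 (fun h0 => (Finset.mem_erase.1 hr).1 (Subtype.ext h0)) r.2,
        Finset.sum_const, Finset.card_erase_of_mem (Finset.mem_univ _), nsmul_eq_mul,
        Nat.cast_sub (Finset.card_pos.2 ⟨z, Finset.mem_univ _⟩), Finset.card_univ,
        ← Nat.card_eq_fintype_card, Nat.cast_one]
      rfl
    simp only [Fintype.sum_prod_type, e, Finset.sum_add_distrib, Finset.sum_const, Finset.card_univ,
      ← Nat.card_eq_fintype_card, H.card_fld, nsmul_eq_mul]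
    have e2 : ∑ b : Fld σ × Fld σ, trW ψ 𝔉 ρ x (emb b.1 b.2 0) =
        trW ψ 𝔉 ρ x 0 + ((q : ℂ) ^ 2 - 1) * Ta := by
      rw [← Finset.add_sum_erase _ _ (Finset.mem_univ ((0 : Fld σ), (0 : Fld σ))), emb_zero,
        Finset.sum_congr rfl fun b hb => hTa b.1 b.2 (by
          by_contra hc
          push Not at hc
          exact (Finset.mem_erase.1 hb).1 (Prod.ext hc.1 hc.2)),
        Finset.sum_const, Finset.card_erase_of_mem (Finset.mem_univ _), nsmul_eq_mul,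
        Nat.cast_sub (Finset.card_pos.2 ⟨((0 : Fld σ), (0 : Fld σ)), Finset.mem_univ _⟩),
        Finset.card_univ, ← Nat.card_eq_fintype_card, Nat.card_prod, H.card_fld]
      push_cast
      ring
    rw [Fintype.sum_prod_type] at e2
    linear_combination e2
  have h6 : (n : ℂ) = (mu σ ψ 𝔉 ρ 0 : ℂ) + (m : ℂ) * ((nSing σ (k + 2) : ℂ) - 1) := by
    exact_mod_cast finrank_exact H hψ hE
  have h7 : (nSing σ (k + 2) : ℂ) =
      ((q : ℂ) ^ 2 - 1) * (q : ℂ) ^ (2 * k + 3) + (q : ℂ) ^ 2 * (nSing σ k : ℂ) := by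
    rw [nSing_succ H, nSing_succ H]
    push_cast [Nat.cast_sub (show 1 ≤ q from le_trans one_le_two H.two_le)]
    ring
  rw [h2, h3, h4, h5, h6, h7] at h1
  linear_combination h1

end CfsgLib.TwistESixDegree
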