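import Cfsg.Agent.TwistESixDegree.Tables

/-!
# Identities between orbit elements

Commutation, the exchange of two adjacent roots, and the commutator of two orbit elements which is a
fixed root element.
-/

set_option autoImplicit false

namespace CfsgLib.TwistESixDegree

open Cfsg.Lie CfsgLib.Chevalley CfsgLib.GraphTwist
open scoped MatrixGroups

variable {K : Type*} [Field K]

theorem Nil.commute {p s : Root chevE6} (h : Nil p s) (a u : K) : Commute (XE p a) (XE s u) :=
  comm_nil h.1 h.2.1 h.2.2 a u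

/-- An element exchanging two adjacent roots. -/
theorem conj_adj {g g' s m : Root chevE6} {c : ℤ} (h : AdjOk g g' s m c) (hc : c * c = 1) (t : K) :
    XE g (1 : K) * XE g' (-1 : K) * XE g 1 * XE s t =
      XE m ((c : K) * t) * (XE g 1 * XE g' (-1) * XE g 1) := by
  obtain ⟨⟨a1, a2, a3⟩, ⟨b1, b2, b3⟩, n1, n2, n3, n4, n5, n6⟩ := h
  have hcK : (c : K) * c = 1 := by exact_mod_cast congrArg (Int.cast : ℤ → K) hc
  have eA : XE g (1 : K) * XE s t = XE s t * XE m ((c : K) * t) * XE g 1 := by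
    rw [comm_one a1 a2 a3 ⟨n2.1.symm, fun e => n4.2.1 e, n4.2.2⟩ ⟨n3.1.symm, fun e => n5.2.1 e, n5.2.2⟩ 1 t,
      mul_one]
  have eB : XE g' (-1 : K) * XE m ((c : K) * t) = XE m ((c : K) * t) * XE s (-t) * XE g' (-1) := by
    rw [comm_one b1 b2 b3 ⟨n1.1.symm, fun e => n6.2.1 e, n6.2.2⟩ ⟨n5.1.symm, fun e => n3.2.1 e, n3.2.2⟩
      (-1) ((c : K) * t),
      show (c : K) * -1 * ((c : K) * t) = -t by linear_combination (-t) * hcK]
  calc XE g (1 : K) * XE g' (-1) * XE g 1 * XE s t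
      = XE g 1 * (XE g' (-1) * (XE g 1 * XE s t)) := by simp only [mul_assoc]
    _ = XE g 1 * ((XE g' (-1) * XE s t) * (XE m ((c : K) * t) * XE g 1)) := by
        rw [eA]; simp only [mul_assoc]
    _ = XE g 1 * (XE s t * ((XE g' (-1) * XE m ((c : K) * t)) * XE g 1)) := by
        rw [(n1.commute _ _).eq]; simp only [mul_assoc]
    _ = XE g 1 * (((XE s t * XE m ((c : K) * t)) * XE s (-t)) * (XE g' (-1) * XE g 1)) := by
        rw [eB]; simp only [mul_assoc]
    _ = (XE g 1 * XE m ((c : K) * t)) * (XE g' (-1) * XE g 1) := by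
        rw [(n3.commute _ _).eq, mul_assoc (XE m _), X_mul, add_neg_cancel, X_zero, mul_one,
          mul_assoc]
    _ = _ := by rw [(n2.commute _ _).eq]; simp only [mul_assoc]

variable (Φ : FieldTwist setupE6 K)

theorem oX_commute {r p : Root chevE6} (hr : setupE6.σR r ≠ r) (h1 : Nil r p)
    (h2 : Nil (setupE6.σR r) p) (u a : K) : Commute (Φ.oX r u) (XE p a) := by
  rw [oX_two Φ hr]
  exact (h1.commute _ _).mul_left (h2.commute _ _)

theorem oX_commute_two {r s : Root chevE6} (hr : setupE6.σR r ≠ r) (hs : setupE6.σR s ≠ s)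
    (h : Nil r s ∧ Nil r (setupE6.σR s) ∧ Nil (setupE6.σR r) s ∧
      Nil (setupE6.σR r) (setupE6.σR s)) (u a : K) : Commute (Φ.oX r u) (Φ.oX s a) := by
  rw [oX_two Φ hs]
  exact (oX_commute Φ hr h.1 h.2.2.1 u a).mul_right (oX_commute Φ hr h.2.1 h.2.2.2 u _)

theorem oX_add {r : Root chevE6} (hr : setupE6.σR r ≠ r) (h : Nil r (setupE6.σR r)) (u v : K) :
    Φ.oX r (u + v) = Φ.oX r u * Φ.oX r v := by
  rw [oX_two Φ hr, oX_two Φ hr, oX_two Φ hr, map_add, mul_add]
  calc XE r (u + v) * XE (setupE6.σR r) (_ + _)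
      = XE r u * (XE r v * XE (setupE6.σR r) ((setupE6.cfg.S.sgn r : K) * Φ.f u)) *
          XE (setupE6.σR r) ((setupE6.cfg.S.sgn r : K) * Φ.f v) := by
        rw [show XE r (u + v) = (XE r u * XE r v : GL chevE6.Idx K) from (X_mul _ _ _ _).symm,
          show ∀ x y : K, XE (setupE6.σR r) (x + y) =
            (XE (setupE6.σR r) x * XE (setupE6.σR r) y : GL chevE6.Idx K) from
            fun x y => (X_mul _ _ _ _).symm]
        simp only [mul_assoc]
    _ = _ := by rw [(h.commute _ _).eq]; simp only [mul_assoc]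

/-- The commutator of two orbit elements. -/
theorem oX_pair {r s k : Root chevE6} {c1 c2 : ℤ} (h : PairOk r s k c1 c2) (u a : K) :
    Φ.oX r u * Φ.oX s a = XE k (u * Φ.f a + Φ.f u * a) * (Φ.oX s a * Φ.oX r u) := by
  obtain ⟨hr, hs, ⟨a1, a2, a3⟩, ⟨b1, b2, b3⟩, n1, n2, k1, k2, k3, k4, e1, e2⟩ := h
  set r' := setupE6.σR r
  set s' := setupE6.σR s
  have e1' : (c1 : K) * (setupE6.cfg.S.sgn s : K) = 1 := by exact_mod_cast congrArg (Int.cast : ℤ → K) e1
  have e2' : (c2 : K) * (setupE6.cfg.S.sgn r : K) = 1 := by exact_mod_cast congrArg (Int.cast : ℤ → K) e2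
  set u' : K := (setupE6.cfg.S.sgn r : K) * Φ.f u
  set a' : K := (setupE6.cfg.S.sgn s : K) * Φ.f a
  have f1 : XE r u * XE s' a' = XE s' a' * XE k (u * Φ.f a) * XE r u := by
    rw [comm_one a1 a2 a3 ⟨k1.1, k1.2.1, k1.2.2⟩ ⟨k4.1, k4.2.1, k4.2.2⟩,
      show (c1 : K) * u * a' = u * Φ.f a by linear_combination (u * Φ.f a) * e1']
  have f2 : XE r' u' * XE s a = XE s a * XE k (Φ.f u * a) * XE r' u' := by
    rw [comm_one b1 b2 b3 ⟨k3.1, k3.2.1, k3.2.2⟩ ⟨k2.1, k2.2.1, k2.2.2⟩,
      show (c2 : K) * u' * a = Φ.f u * a by linear_combination (Φ.f u * a) * e2']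
  rw [oX_two Φ hr, oX_two Φ hs, show XE k (u * Φ.f a + Φ.f u * a) =
    (XE k (u * Φ.f a) * XE k (Φ.f u * a) : GL chevE6.Idx K) from (X_mul _ _ _ _).symm]
  set A := XE k (u * Φ.f a)
  set B := XE k (Φ.f u * a)
  have g1 : XE r u * XE s' a' = A * XE s' a' * XE r u := by
    rw [f1, (k4.commute (u * Φ.f a) a').eq]
  have g2 : XE r' u' * XE s a = B * XE s a * XE r' u' := by
    rw [f2, (k2.commute (Φ.f u * a) a).eq]
  calc XE r u * XE r' u' * (XE s a * XE s' a')
      = XE r u * (XE r' u' * XE s a) * XE s' a' := by simp only [mul_assoc]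
    _ = (XE r u * B) * XE s a * (XE r' u' * XE s' a') := by rw [g2]; simp only [mul_assoc]
    _ = B * (XE r u * XE s a) * (XE s' a' * XE r' u') := by
        rw [(n2.commute u' a').eq, ← (k1.commute (Φ.f u * a) u).eq]; simp only [B, mul_assoc]
    _ = B * XE s a * (XE r u * XE s' a') * XE r' u' := by
        rw [(n1.commute u a).eq]; simp only [mul_assoc]
    _ = B * (XE s a * A) * XE s' a' * XE r u * XE r' u' := by rw [g1]; simp only [mul_assoc]
    _ = B * A * (XE s a * XE s' a') * (XE r u * XE r' u') := by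
        rw [← (k2.commute (u * Φ.f a) a).eq]; simp only [A, mul_assoc]
    _ = _ := by
        rw [show B * A = A * B by rw [X_mul, X_mul, add_comm]]
        simp only [mul_assoc, u', a', r', s']

end CfsgLib.TwistESixDegree
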