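import Cfsg.Agent.TwistESixDegree.Count
import Cfsg.Agent.RepBounds.Proj
import Cfsg.Agent.RepBounds.Restrict
import Cfsg.Agent.Characters.Integrality

/-!
# Weights of a family indexed by a space of minus type

A group element inducing a move permutes the weights, so the multiplicity of a non-zero weight only
depends on the value of the form.
-/

set_option autoImplicit false
set_option linter.unusedSectionVars false

namespace CfsgLib.TwistESixDegree

open Module CfsgLib.RepBounds

variable {K : Type*} [Field K] [Fintype K] (σ : K ≃+* K) [hσ : Fact (∀ x : K, σ (σ x) = x)] {k : ℕ}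

noncomputable instance instFintypeFld : Fintype (Fld σ) := Fintype.ofFinite _

/-- The dual of a move between planes. -/
def lmV (g h : Hx k) (a : Fld σ) (v : MS σ k) : MS σ k :=
  (fun i => v.1 i + ((if i = g then a * v.1 h else 0) + if i = mate h then -(a * v.1 (mate g)) else 0), v.2)

/-- The dual of a move with the anisotropic part. -/
def smV (g : Hx k) (t : K) (v : MS σ k) : MS σ k :=
  (fun i => v.1 i + if i = g then tr σ (t * σ v.2) - nm σ t * v.1 (mate g) else 0,
    v.2 - t * v.1 (mate g))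

theorem lmV_lmV {g h : Hx k} (hgh : g.1 ≠ h.1) (a b : Fld σ) (v : MS σ k) :
    lmV σ g h a (lmV σ g h b v) = lmV σ g h (a + b) v := by
  have e1 : g ≠ h := fun e => hgh (congrArg Prod.fst e)
  have e2 : g ≠ mate h := fun e => hgh (congrArg Prod.fst e :)
  have e3 : mate g ≠ mate h := fun e => hgh (congrArg Prod.fst e :)
  refine Prod.ext (funext fun i => ?_) rfl
  simp only [lmV]
  simp [e1, e1.symm, e2, e2.symm, e3, e3.symm, mate_ne, (mate_ne _).symm,
    show mate g ≠ g from mate_ne g, show h ≠ mate h from (mate_ne h).symm]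
  split_ifs <;> ring

theorem smV_smV (g : Hx k) (t u : K) (v : MS σ k) :
    smV σ g t (smV σ g u v) = smV σ g (t + u) v := by
  have e : (mate g) ≠ g := mate_ne g
  refine Prod.ext (funext fun i => ?_) ?_
  · by_cases hi : i = g
    · subst hi
      apply Subtype.ext
      simp only [smV, if_pos, e, if_false, add_zero, Subfield.coe_add, AddSubgroupClass.coe_sub,
        Subfield.coe_mul, coe_tr, coe_nm, map_mul, map_sub, map_add, hσ.out, fld_fix]
      ring
    · simp [smV, hi]
  · simp [smV, e]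
    ring

theorem lmV_add (g h : Hx k) (a : Fld σ) (u v : MS σ k) :
    lmV σ g h a (u + v) = lmV σ g h a u + lmV σ g h a v := by
  refine Prod.ext (funext fun i => ?_) rfl
  simp only [lmV, Prod.fst_add, Pi.add_apply]
  split_ifs <;> ring

theorem smV_add (g : Hx k) (t : K) (u v : MS σ k) :
    smV σ g t (u + v) = smV σ g t u + smV σ g t v := by
  refine Prod.ext (funext fun i => ?_) ?_
  · by_cases hi : i = g
    · subst hi
      apply Subtype.ext
      simp only [smV, if_pos, Prod.fst_add, Prod.snd_add, Pi.add_apply, Subfield.coe_add,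
        AddSubgroupClass.coe_sub, Subfield.coe_mul, coe_tr, coe_nm, map_mul, map_add, hσ.out]
      ring
    · simp [smV, hi]
  · simp [smV]
    ring

/-- The dual of a move between planes, as an automorphism. -/
def lmE {g h : Hx k} (hgh : g.1 ≠ h.1) (a : Fld σ) : MS σ k ≃+ MS σ k where
  toFun := lmV σ g h a
  invFun := lmV σ g h (-a)
  left_inv v := by
    rw [lmV_lmV σ hgh, neg_add_cancel]
    exact Prod.ext (funext fun i => by simp [lmV]) rfl
  right_inv v := by
    rw [lmV_lmV σ hgh, add_neg_cancel]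
    exact Prod.ext (funext fun i => by simp [lmV]) rfl
  map_add' := lmV_add σ g h a

theorem smV_zero (g : Hx k) (v : MS σ k) : smV σ g 0 v = v := by
  refine Prod.ext (funext fun i => Subtype.ext ?_) (by simp [smV])
  by_cases hi : i = g
  · subst hi; simp [smV]
  · simp [smV, hi]

/-- The dual of a move with the anisotropic part, as an automorphism. -/
def smE (g : Hx k) (t : K) : MS σ k ≃+ MS σ k where
  toFun := smV σ g t
  invFun := smV σ g (-t)
  left_inv v := by rw [smV_smV, neg_add_cancel, smV_zero]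
  right_inv v := by rw [smV_smV, add_neg_cancel, smV_zero]
  map_add' := smV_add σ g t

/-- The pairing. -/
def pair (w v : MS σ k) : Fld σ := (∑ i, w.1 i * v.1 i) + tr σ (w.2 * σ v.2)

theorem pair_lmV {g h : Hx k} (hgh : g.1 ≠ h.1) (a : Fld σ) (w v : MS σ k) :
    pair σ w (lmV σ g h a v) = pair σ (lmW σ g h a w) v := by
  have e3 : mate g ≠ h := fun e => hgh (congrArg Prod.fst e :)
  have e1 : ∑ i, w.1 i * (lmV σ g h a v).1 i = (∑ i, w.1 i * v.1 i) + w.1 g * (a * v.1 h) +
      w.1 (mate h) * -(a * v.1 (mate g)) := by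
    simp only [lmV, mul_add, Finset.sum_add_distrib, mul_ite, mul_zero, Finset.sum_ite_eq',
      Finset.mem_univ, if_true]
    ring
  have e2 : ∀ i, (lmW σ g h a w).1 i * v.1 i = w.1 i * v.1 i +
      ((if i = h then a * w.1 g * v.1 i else 0) +
        if i = mate g then -(a * w.1 (mate h)) * v.1 i else 0) := fun i => by
    simp only [lmW]
    split_ifs with h1 h2
    · exact absurd (h2.symm.trans h1) e3
    all_goals ring
  rw [pair, pair, e1, Finset.sum_congr rfl fun i _ => e2 i, Finset.sum_add_distrib,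
    Finset.sum_add_distrib, Finset.sum_ite_eq', Finset.sum_ite_eq']
  simp only [Finset.mem_univ, if_true, lmW, lmV]
  ring

theorem pair_smV (g : Hx k) (t : K) (w v : MS σ k) :
    pair σ w (smV σ g t v) = pair σ (smW σ g (t) w) v := by
  have e1 : ∑ i, w.1 i * (smV σ g t v).1 i = (∑ i, w.1 i * v.1 i) +
      w.1 g * (tr σ (t * σ v.2) - nm σ t * v.1 (mate g)) := by
    simp only [smV, mul_add, Finset.sum_add_distrib, mul_ite, mul_zero, Finset.sum_ite_eq',
      Finset.mem_univ, if_true]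
  have e2 : ∑ i, (smW σ g t w).1 i * v.1 i = (∑ i, w.1 i * v.1 i) +
      -(tr σ (σ t * w.2) + nm σ t * w.1 g) * v.1 (mate g) := by
    simp only [smW, add_mul, Finset.sum_add_distrib, ite_mul, zero_mul, Finset.sum_ite_eq',
      Finset.mem_univ, if_true]
  rw [pair, pair, e1, e2]
  apply Subtype.ext
  simp only [smV, smW, Subfield.coe_add, AddSubgroupClass.coe_sub, Subfield.coe_mul, coe_tr, coe_nm,
    Subfield.coe_neg, map_mul, map_sub, map_add, hσ.out, fld_fix]
  ring

/-- The character of a weight. -/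
noncomputable def chi (ψ : AddChar (Fld σ) ℂ) (w : MS σ k) : AddChar (MS σ k) ℂ :=
  ψ.compAddMonoidHom (AddMonoidHom.mk' (pair σ w) fun u v => by
    apply Subtype.ext
    simp only [pair, Prod.fst_add, Prod.snd_add, Pi.add_apply, mul_add, Finset.sum_add_distrib,
      map_add, Subfield.coe_add, coe_tr]
    ring)

theorem chi_apply (ψ : AddChar (Fld σ) ℂ) (w v : MS σ k) : chi σ ψ w v = ψ (pair σ w v) := rfl

/-- A coordinate vector. -/
def single (h : Hx k) (s : Fld σ) : MS σ k := (Pi.single h s, 0)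

theorem pair_single (w : MS σ k) (h : Hx k) (s : Fld σ) : pair σ w (single σ h s) = w.1 h * s := by
  have h0 : tr σ (0 : K) = 0 := Subtype.ext (by simp)
  rw [pair, Finset.sum_eq_single h (fun i _ hi => by simp [single, hi]) (by simp)]
  simp [single, h0]

variable (hne : ∃ x : K, σ x ≠ x) {ψ : AddChar (Fld σ) ℂ} (hψ : ψ.IsPrimitive)
include hne hψ

theorem chi_injective : Function.Injective (chi σ ψ : MS σ k → _) := by
  intro w w' h
  by_contra hne'
  obtain ⟨v, hv⟩ : ∃ v, pair σ w v - pair σ w' v ≠ 0 := by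
    by_cases h1 : w.1 = w'.1
    · have h2 : w.2 - w'.2 ≠ 0 := sub_ne_zero.2 fun e => hne' (Prod.ext h1 e)
      obtain ⟨x, hx⟩ := tr_surj σ hne 1
      refine ⟨((fun _ => 0), σ (x / (w.2 - w'.2))), ?_⟩
      have e : pair σ w ((fun _ => 0), σ (x / (w.2 - w'.2))) -
          pair σ w' ((fun _ => 0), σ (x / (w.2 - w'.2))) = tr σ x := by
        conv_rhs => rw [← mul_div_cancel₀ x h2, ← mul_div_assoc]
        apply Subtype.ext
        simp only [pair, AddSubgroupClass.coe_sub, Subfield.coe_add, coe_tr, mul_zero,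
          Finset.sum_const_zero, ZeroMemClass.coe_zero, zero_add, hσ.out, map_mul, map_div₀, map_sub]
        ring
      rw [e, hx]
      exact one_ne_zero
    · obtain ⟨i, hi⟩ := Function.ne_iff.1 h1
      exact ⟨single σ i 1, by rw [pair_single, pair_single, mul_one, mul_one]; exact sub_ne_zero.2 hi⟩
  refine hψ hv (DFunLike.ext _ _ fun t => ?_)
  have e : ∀ u : MS σ k, pair σ u (((fun i => t * v.1 i), (t : K) * v.2) : MS σ k) = t * pair σ u v := by
    intro u
    apply Subtype.ext
    simp only [pair, Subfield.coe_add, Subfield.coe_mul, coe_tr, AddSubmonoidClass.coe_finset_sum,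
      mul_add, Finset.mul_sum, map_mul, fld_fix, hσ.out]
    congr 1
    · exact Finset.sum_congr rfl fun i _ => by ring
    · ring
  have h1 := DFunLike.congr_fun h (((fun i => t * v.1 i), (t : K) * v.2) : MS σ k)
  rw [chi_apply, chi_apply, e, e] at h1
  rw [AddChar.mulShift_apply, AddChar.one_apply, sub_mul, sub_eq_add_neg, AddChar.map_add_eq_mul,
    mul_comm (pair σ w v), h1, ← AddChar.map_add_eq_mul, mul_comm t, add_neg_cancel,
    AddChar.map_zero_eq_one]

theorem chi_bijective : Function.Bijective (chi σ ψ : MS σ k → _) := by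
  classical
  exact (Fintype.bijective_iff_injective_and_card _).2 ⟨chi_injective σ hne hψ, AddChar.card_eq.symm⟩

omit hne hψ

theorem chi_zero : chi σ ψ (0 : MS σ k) = 0 := by
  ext v
  have h0 : tr σ (0 : K) = 0 := Subtype.ext (by simp)
  simp [chi_apply, pair, h0]

section Family

variable {G : Type*} [Group G] {V : Type*} [AddCommGroup V] [Module ℂ V] [FiniteDimensional ℂ V]

variable (k G) in
/-- A family normalised by elements inducing all the moves. -/
structure Fam where
  /-- The group of the coordinates. -/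
  P : AddChar (MS σ k) G
  /-- The elements of the moves between planes. -/
  L : Hx k → Hx k → Fld σ → G
  /-- The elements of the moves with the anisotropic part. -/
  S : Hx k → K → G
  conjL : ∀ g h : Hx k, g.1 ≠ h.1 → ∀ a v, L g h a * P v = P (lmV σ g h a v) * L g h a
  conjS : ∀ g t v, S g t * P v = P (smV σ g t v) * S g t

variable (𝔉 : Fam σ k G) (ρ : Representation ℂ G V) (ψ)

/-- The projector of a weight. -/
noncomputable def pr (w : MS σ k) : End ℂ V := proj (resChar ρ 𝔉.P) (chi σ ψ w)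

/-- The multiplicity of a weight. -/
noncomputable def mu (w : MS σ k) : ℕ := rnk (pr σ ψ 𝔉 ρ w)

theorem pr_idem (w : MS σ k) : pr σ ψ 𝔉 ρ w * pr σ ψ 𝔉 ρ w = pr σ ψ 𝔉 ρ w := proj_mul_proj _ _

theorem trace_pr (w : MS σ k) : LinearMap.trace ℂ V (pr σ ψ 𝔉 ρ w) = (mu σ ψ 𝔉 ρ w : ℂ) :=
  rnk_trace (pr_idem σ ψ 𝔉 ρ w)

theorem conj_pr {u : G} (e : MS σ k ≃+ MS σ k) (m : MS σ k → MS σ k)
    (hu : ∀ v, u * 𝔉.P v = 𝔉.P (e v) * u) (hm : ∀ w v, pair σ w (e.symm v) = pair σ (m w) v)
    (w : MS σ k) : ρ u * pr σ ψ 𝔉 ρ w = pr σ ψ 𝔉 ρ (m w) * ρ u := by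
  rw [pr, pr, conj_proj (resChar ρ 𝔉.P) (chi σ ψ w) (ρ u) e fun v => by
    rw [resChar_apply, resChar_apply, ← map_mul, hu, map_mul]]
  congr 2
  exact DFunLike.ext _ _ fun v => congrArg ψ (hm w v)

theorem L_pr {g h : Hx k} (hgh : g.1 ≠ h.1) (a : Fld σ) (w : MS σ k) :
    ρ (𝔉.L g h a) * pr σ ψ 𝔉 ρ w = pr σ ψ 𝔉 ρ (lmW σ g h (-a) w) * ρ (𝔉.L g h a) :=
  conj_pr σ ψ 𝔉 ρ (lmE σ hgh a) _ (𝔉.conjL g h hgh a) (fun w v => pair_lmV σ hgh (-a) w v) w

theorem S_pr (g : Hx k) (t : K) (w : MS σ k) :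
    ρ (𝔉.S g t) * pr σ ψ 𝔉 ρ w = pr σ ψ 𝔉 ρ (smW σ g (-t) w) * ρ (𝔉.S g t) :=
  conj_pr σ ψ 𝔉 ρ (smE σ g t) _ (𝔉.conjS g t) (fun w v => pair_smV σ g (-t) w v) w

/-- A function of the projectors invariant under conjugation by the moves is invariant. -/
theorem inv_of_conj {β : Type*} (F : End ℂ V → β) (c : β) (hF : ∀ u : G, (∃ g h, g.1 ≠ h.1 ∧ ∃ a, u = 𝔉.L g h a) ∨
      (∃ g t, u = 𝔉.S g t) → ∀ e : End ℂ V, F (ρ u * e * ρ u⁻¹) = F e) :
    Inv σ fun w => F (pr σ ψ 𝔉 ρ w) = c := by
  have key : ∀ (u : G) (w w' : MS σ k), ρ u * pr σ ψ 𝔉 ρ w = pr σ ψ 𝔉 ρ w' * ρ u →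
      pr σ ψ 𝔉 ρ w' = ρ u * pr σ ψ 𝔉 ρ w * ρ u⁻¹ := fun u w w' h => by
    rw [h, mul_assoc, ← map_mul, mul_inv_cancel, map_one, mul_one]
  refine ⟨fun g h hgh a w => ?_, fun g t w => ?_⟩
  · have h1 := key _ w _ (L_pr σ ψ 𝔉 ρ hgh (-a) w)
    rw [neg_neg] at h1
    simp only [h1, hF _ (Or.inl ⟨g, h, hgh, -a, rfl⟩)]
  · have h1 := key _ w _ (S_pr σ ψ 𝔉 ρ g (-t) w)
    rw [neg_neg] at h1
    simp only [h1, hF _ (Or.inr ⟨g, -t, rfl⟩)]

theorem trace_conj (u : G) (e : End ℂ V) :
    LinearMap.trace ℂ V (ρ u * e * ρ u⁻¹) = LinearMap.trace ℂ V e := by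
  rw [LinearMap.trace_mul_comm, ← mul_assoc, ← map_mul, inv_mul_cancel, map_one, one_mul]

theorem inv_mu (c : ℕ) : Inv σ fun w => mu σ ψ 𝔉 ρ w = c := by
  have h := inv_of_conj σ ψ 𝔉 ρ (LinearMap.trace ℂ V) (c : ℂ) fun u _ e => trace_conj ρ u e
  simp only [trace_pr, Nat.cast_inj] at h
  exact h

end Family

end CfsgLib.TwistESixDegree
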