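import Cfsg.Agent.TwistESixDegree.Abelian
import Cfsg.Agent.TwistESixDegree.Weights

/-!
# Families of minus type inside `²E₆`

A table of roots of `E₆` gives an abelian subgroup of the twisted group with coordinates in a space
of minus type, and orbit elements inducing all the moves on it.
-/

set_option autoImplicit false
set_option maxHeartbeats 400000

namespace CfsgLib.TwistESixDegree

open Cfsg.Lie CfsgLib.Chevalley CfsgLib.GraphTwist
open scoped MatrixGroups

theorem fTwist_two {K : Type*} [Field K] (Φ : FieldTwist setupE6 K) (x : K) : Φ.f (Φ.f x) = x :=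
  Φ.periodic x

instance instFactInvol {K : Type*} [Field K] (Φ : FieldTwist setupE6 K) :
    Fact (∀ x : K, Φ.f (Φ.f x) = x) := ⟨fTwist_two Φ⟩

/-- A sign of a symmetry. -/
abbrev eR (r : Root chevE6) : ℤ := setupE6.cfg.S.sgn r

/-- The roots of a family and of its moves. -/
structure GeoData (k : ℕ) where
  /-- The roots of the coordinates. -/
  Y : Hx k ⊕ Bool → Root chevE6
  /-- The signs of the hyperbolic coordinates. -/
  sg : Hx k → ℤ
  /-- The roots of the moves between planes. -/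
  lr : Hx k → Hx k → Root chevE6 × ℤ
  /-- The roots of the moves with the anisotropic part. -/
  sr : Hx k → Root chevE6 × ℤ

namespace GeoData

variable {k : ℕ} (𝒢 : GeoData k)

/-- The triples of a move between planes. -/
def lTab (g h : Hx k) : List ((Hx k ⊕ Bool) × (Hx k ⊕ Bool) × ℤ) :=
  [(.inl h, .inl g, (𝒢.lr g h).2 * 𝒢.sg g * 𝒢.sg h),
    (.inl (mate g), .inl (mate h), -((𝒢.lr g h).2 * 𝒢.sg (mate g) * 𝒢.sg (mate h)))]

/-- The triples of the first root of an anisotropic move. -/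
def pTab (g : Hx k) : List ((Hx k ⊕ Bool) × (Hx k ⊕ Bool) × ℤ) :=
  [(.inl (mate g), .inr false, -((𝒢.sr g).2 * 𝒢.sg (mate g))),
    (.inr true, .inl g, (𝒢.sr g).2 * eR (𝒢.Y (.inr false)) * 𝒢.sg g)]

/-- The triples of the second root of an anisotropic move. -/
def qTab (g : Hx k) : List ((Hx k ⊕ Bool) × (Hx k ⊕ Bool) × ℤ) :=
  [(.inl (mate g), .inr true,
      -(eR (𝒢.sr g).1 * (𝒢.sr g).2 * eR (𝒢.Y (.inr false)) * 𝒢.sg (mate g))),
    (.inr false, .inl g, eR (𝒢.sr g).1 * (𝒢.sr g).2 * 𝒢.sg g)]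

/-- The checks. -/
structure Ok : Prop where
  ab : AbOk 𝒢.Y
  fixY : ∀ h, setupE6.σR (𝒢.Y (.inl h)) = 𝒢.Y (.inl h)
  pairY : setupE6.σR (𝒢.Y (.inr false)) = 𝒢.Y (.inr true) ∧
    𝒢.Y (.inr true) ≠ 𝒢.Y (.inr false) ∧ eR (𝒢.Y (.inr false)) * eR (𝒢.Y (.inr false)) = 1
  sign : ∀ h, 𝒢.sg h * 𝒢.sg h = 1
  long : ∀ g h : Hx k, g.1 ≠ h.1 → setupE6.σR (𝒢.lr g h).1 = (𝒢.lr g h).1 ∧
    (𝒢.lr g h).2 * (𝒢.lr g h).2 = 1 ∧ MvOk 𝒢.Y (𝒢.lr g h).1 (𝒢.lTab g h)
  short : ∀ g : Hx k, setupE6.σR (𝒢.sr g).1 ≠ (𝒢.sr g).1 ∧ (𝒢.sr g).2 * (𝒢.sr g).2 = 1 ∧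
    eR (𝒢.sr g).1 * eR (𝒢.sr g).1 = 1 ∧ MvOk 𝒢.Y (𝒢.sr g).1 (𝒢.pTab g) ∧
    MvOk 𝒢.Y (setupE6.σR (𝒢.sr g).1) (𝒢.qTab g)

variable {K : Type*} [Field K] [Fintype K] (Φ : FieldTwist setupE6 K)

/-- The coordinates as parameters of root elements. -/
def coord : MS Φ.f k →+ (Hx k ⊕ Bool → K) :=
  AddMonoidHom.mk' (fun v i => Sum.elim (fun h => (𝒢.sg h : K) * (v.1 h : K))
      (fun b => if b then (eR (𝒢.Y (.inr false)) : K) * Φ.f v.2 else v.2) i)
    fun u v => by
      funext i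
      rcases i with h | b
      · simp [mul_add]
      · cases b <;> simp [mul_add]

variable {𝒢} (O : 𝒢.Ok)
include O

theorem sign_cast {z : ℤ} (h : z * z = 1) : (z : K) * z = 1 := by
  exact_mod_cast congrArg (Int.cast : ℤ → K) h

theorem coord_lm {g h : Hx k} (hgh : g.1 ≠ h.1) (a : Fld Φ.f) (v : MS Φ.f k) :
    𝒢.coord Φ (lmV Φ.f g h a v) =
      dualJ (𝒢.lTab g h) (((𝒢.lr g h).2 : K) * a) (𝒢.coord Φ v) := by
  have hl := sign_cast (K := K) O (O.long g h hgh).2.1
  have s1 := sign_cast (K := K) O (O.sign h)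
  have s2 := sign_cast (K := K) O (O.sign (mate g))
  have e2 : g ≠ mate h := fun e => hgh (congrArg Prod.fst e :)
  funext i
  rcases i with i | b
  · by_cases h1 : g = i
    · subst h1
      simp [coord, lmV, dualJ, lTab, e2, e2.symm]
      linear_combination -(((a : K) * (v.1 h : K) * (𝒢.sg g : K)) * ((𝒢.sg h : K) * 𝒢.sg h)) * hl -
        ((a : K) * (v.1 h : K) * (𝒢.sg g : K)) * s1
    · by_cases h2 : mate h = i
      · subst h2
        simp [coord, lmV, dualJ, lTab, e2, e2.symm, Ne.symm h1]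
        linear_combination (((a : K) * (v.1 (mate g) : K) * (𝒢.sg (mate h) : K)) *
          ((𝒢.sg (mate g) : K) * 𝒢.sg (mate g))) * hl +
          ((a : K) * (v.1 (mate g) : K) * (𝒢.sg (mate h) : K)) * s2
      · simp [coord, lmV, dualJ, lTab, h1, h2, Ne.symm h1, Ne.symm h2]
  · cases b <;> simp [coord, lmV, dualJ, lTab]

theorem coord_sm (g : Hx k) (t : K) (v : MS Φ.f k) :
    𝒢.coord Φ (smV Φ.f g t v) = dualJ (𝒢.pTab g) (((𝒢.sr g).2 : K) * t)
      (dualJ (𝒢.qTab g) ((eR (𝒢.sr g).1 : K) * Φ.f (((𝒢.sr g).2 : K) * t)) (𝒢.coord Φ v)) := by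
  obtain ⟨-, hm, hp, -, -⟩ := O.short g
  have hm' := sign_cast (K := K) O hm
  have hp' := sign_cast (K := K) O hp
  have he := sign_cast (K := K) O O.pairY.2.2
  have s1 := sign_cast (K := K) O (O.sign (mate g))
  have e1 : g ≠ mate g := (mate_ne g).symm
  funext i
  rcases i with i | b
  · by_cases h1 : g = i
    · subst h1
      simp [coord, smV, dualJ, pTab, qTab, e1, e1.symm, map_mul, map_intCast, fTwist_two, fld_fix]
      grind
    · simp [coord, smV, dualJ, pTab, qTab, h1, Ne.symm h1]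
  · cases b <;> simp [coord, smV, dualJ, pTab, qTab, map_mul, map_intCast, fTwist_two, fld_fix] <;> grind

/-- The coordinate group. -/
theorem coord_mem (v : MS Φ.f k) : PY O.ab (𝒢.coord Φ v) ∈ Φ.tG := by
  classical
  have e : 𝒢.coord Φ v = (∑ h : Hx k, Pi.single (.inl h) ((𝒢.sg h : K) * (v.1 h : K))) +
      (Pi.single (.inr false) v.2 +
        Pi.single (.inr true) ((eR (𝒢.Y (.inr false)) : K) * Φ.f v.2)) := by
    funext i
    simp only [Pi.add_apply, Finset.sum_apply]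
    rcases i with h | b
    · rw [Finset.sum_eq_single h (fun j _ hj => by simp [Ne.symm hj]) (by simp)]
      simp [coord]
    · cases b <;> simp [coord]
  rw [e, AddChar.map_add_eq_mul]
  refine mul_mem ?_ ?_
  · generalize (Finset.univ : Finset (Hx k)) = s
    induction s using Finset.induction with
    | empty => rw [Finset.sum_empty, AddChar.map_zero_eq_one]; exact one_mem _
    | insert h s hh ih =>
      rw [Finset.sum_insert hh, AddChar.map_add_eq_mul, PY_single O.ab]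
      refine mul_mem ?_ ih
      have hX := Φ.oX_mem_tG' setupE6_faithful (𝒢.Y (.inl h))
        (t := (𝒢.sg h : K) * (v.1 h : K)) fun _ => by rw [map_mul, map_intCast, fld_fix]
      rw [Φ.oX_eq_X (O.fixY h)] at hX
      exact hX
  · rw [AddChar.map_add_eq_mul, PY_single O.ab, PY_single O.ab, ← O.pairY.1,
      ← oX_two Φ (by rw [O.pairY.1]; exact O.pairY.2.1)]
    exact Φ.oX_mem_tG' setupE6_faithful _ fun h => absurd (O.pairY.1.symm.trans h) O.pairY.2.1

/-- The family in the twisted group. -/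
noncomputable def fam : Fam Φ.f k ↥Φ.tG where
  P :=
    { toFun := fun v => ⟨PY O.ab (𝒢.coord Φ v), coord_mem Φ O v⟩
      map_zero_eq_one' := Subtype.ext (by
        show PY O.ab (𝒢.coord Φ 0) = 1
        rw [map_zero, AddChar.map_zero_eq_one])
      map_add_eq_mul' := fun u v => Subtype.ext (by
        show PY O.ab (𝒢.coord Φ (u + v)) = _
        rw [map_add, AddChar.map_add_eq_mul]
        rfl) }
  L g h a := if hgh : g.1 ≠ h.1 then
      ⟨Φ.oX (𝒢.lr g h).1 (((𝒢.lr g h).2 : K) * a),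
        Φ.oX_mem_tG' setupE6_faithful _ fun _ => by rw [map_mul, map_intCast, fld_fix]⟩
    else 1
  S g t := ⟨Φ.oX (𝒢.sr g).1 (((𝒢.sr g).2 : K) * t),
    Φ.oX_mem_tG' setupE6_faithful _ fun h => absurd h (O.short g).1⟩
  conjL g h hgh a v := by
    rw [dif_pos hgh]
    apply Subtype.ext
    show Φ.oX _ _ * PY O.ab (𝒢.coord Φ v) = PY O.ab (𝒢.coord Φ (lmV Φ.f g h a v)) * Φ.oX _ _
    obtain ⟨hf, -, hM⟩ := O.long g h hgh
    rw [Φ.oX_eq_X hf, coord_lm Φ O hgh]
    exact conj_PY O.ab hM _ _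
  conjS g t v := by
    apply Subtype.ext
    show Φ.oX _ _ * PY O.ab (𝒢.coord Φ v) = PY O.ab (𝒢.coord Φ (smV Φ.f g t v)) * Φ.oX _ _
    obtain ⟨hne, -, -, hp, hq⟩ := O.short g
    rw [oX_two Φ hne, coord_sm Φ O, mul_assoc, conj_PY O.ab hq, ← mul_assoc, conj_PY O.ab hp,
      mul_assoc]

theorem fam_L_val {g h : Hx k} (hgh : g.1 ≠ h.1) (a : Fld Φ.f) :
    ((fam Φ O).L g h a : GL chevE6.Idx K) = XE (𝒢.lr g h).1 (((𝒢.lr g h).2 : K) * a) := by
  show Subtype.val (dite _ _ _) = _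
  rw [dif_pos hgh]
  exact Φ.oX_eq_X (O.long g h hgh).1 _

theorem fam_single_val (h : Hx k) (s : Fld Φ.f) :
    ((fam Φ O).P (single Φ.f h s) : GL chevE6.Idx K) = XE (𝒢.Y (.inl h)) ((𝒢.sg h : K) * s) := by
  classical
  show PY O.ab (𝒢.coord Φ (single Φ.f h s)) = _
  rw [← PY_single O.ab]
  congr 1
  funext i
  rcases i with i | b
  · by_cases hi : i = h
    · subst hi; simp [coord, single]
    · simp [coord, single, hi]
  · cases b <;> simp [coord, single]

end GeoData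

end CfsgLib.TwistESixDegree
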