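import Mathlib

/-!
# Quadratic spaces of minus type

`MS σ k` is the sum of `k` hyperbolic planes over the fixed field of an involution `σ` of a finite
field and that field with the norm. A predicate invariant under the elementary moves only depends,
away from zero, on the value of the form; the number of vectors of a given value is computed.
-/

set_option autoImplicit false

namespace CfsgLib.TwistESixDegree

variable {K : Type*} [Field K] (σ : K ≃+* K)

/-- The fixed field. -/
def Fld : Subfield K where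
  carrier := {x | σ x = x}
  mul_mem' := fun {a b} (ha : σ a = a) (hb : σ b = b) => show σ (a * b) = a * b by rw [map_mul, ha, hb]
  one_mem' := map_one _
  add_mem' := fun {a b} (ha : σ a = a) (hb : σ b = b) => show σ (a + b) = a + b by rw [map_add, ha, hb]
  zero_mem' := map_zero _
  neg_mem' := fun {a} (ha : σ a = a) => show σ (-a) = -a by rw [map_neg, ha]
  inv_mem' := fun a (ha : σ a = a) => show σ a⁻¹ = a⁻¹ by rw [map_inv₀, ha]

theorem fld_fix (s : Fld σ) : σ (s : K) = s := s.2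

/-- The hyperbolic coordinates. -/
abbrev Hx (k : ℕ) : Type := Fin k × Bool

/-- The partner of a hyperbolic coordinate. -/
def mate {k : ℕ} (h : Hx k) : Hx k := (h.1, !h.2)

@[simp] theorem mate_fst {k : ℕ} (h : Hx k) : (mate h).1 = h.1 := rfl

@[simp] theorem mate_mate {k : ℕ} (h : Hx k) : mate (mate h) = h := by simp [mate]

theorem mate_ne {k : ℕ} (h : Hx k) : mate h ≠ h := fun e => by
  have := congrArg Prod.snd e
  simp [mate] at this

/-- The vectors. -/
abbrev MS (k : ℕ) : Type _ := (Hx k → Fld σ) × K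

variable [hσ : Fact (∀ x : K, σ (σ x) = x)]

/-- The trace. -/
def tr (x : K) : Fld σ :=
  ⟨x + σ x, show σ (x + σ x) = x + σ x by rw [map_add, hσ.out, add_comm]⟩

/-- The norm. -/
def nm (x : K) : Fld σ :=
  ⟨x * σ x, show σ (x * σ x) = x * σ x by rw [map_mul, hσ.out, mul_comm]⟩

@[simp] theorem coe_tr (x : K) : (tr σ x : K) = x + σ x := rfl

@[simp] theorem coe_nm (x : K) : (nm σ x : K) = x * σ x := rfl

/-- The quadratic form. -/
def qf {k : ℕ} (w : MS σ k) : Fld σ := (∑ i, w.1 (i, true) * w.1 (i, false)) + nm σ w.2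

/-- A move between two planes. -/
def lmW {k : ℕ} (g h : Hx k) (a : Fld σ) (w : MS σ k) : MS σ k :=
  (fun i => w.1 i + if i = h then a * w.1 g else if i = mate g then -(a * w.1 (mate h)) else 0, w.2)

/-- A move with the anisotropic part. -/
def smW {k : ℕ} (g : Hx k) (t : K) (w : MS σ k) : MS σ k :=
  (fun i => w.1 i + if i = mate g then -(tr σ (σ t * w.2) + nm σ t * w.1 g) else 0, w.2 + t * w.1 g)

/-- Invariance under all the moves. -/
def Inv {k : ℕ} (Q : MS σ k → Prop) : Prop :=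
  (∀ g h : Hx k, g.1 ≠ h.1 → ∀ a w, Q (lmW σ g h a w) ↔ Q w) ∧ ∀ g t w, Q (smW σ g t w) ↔ Q w

/-- Two vectors not separated by invariant predicates. -/
def Conn {k : ℕ} (v w : MS σ k) : Prop := ∀ Q, Inv σ Q → (Q v ↔ Q w)

theorem Conn.trans {k : ℕ} {u v w : MS σ k} (h : Conn σ u v) (h' : Conn σ v w) : Conn σ u w :=
  fun Q hQ => (h Q hQ).trans (h' Q hQ)

theorem Conn.symm {k : ℕ} {v w : MS σ k} (h : Conn σ v w) : Conn σ w v := fun Q hQ => (h Q hQ).symm

theorem conn_lm {k : ℕ} {g h : Hx k} (hgh : g.1 ≠ h.1) (a : Fld σ) (w : MS σ k) :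
    Conn σ w (lmW σ g h a w) := fun _ hQ => (hQ.1 g h hgh a w).symm

theorem conn_sm {k : ℕ} (g : Hx k) (t : K) (w : MS σ k) : Conn σ w (smW σ g t w) :=
  fun _ hQ => (hQ.2 g t w).symm

theorem qf_sm {k : ℕ} (g : Hx k) (t : K) (w : MS σ k) : qf σ (smW σ g t w) = qf σ w := by
  obtain ⟨i0, b⟩ := g
  have hs : ∑ i, (smW σ (i0, b) t w).1 (i, true) * (smW σ (i0, b) t w).1 (i, false) =
      (∑ i, w.1 (i, true) * w.1 (i, false)) +
        -(tr σ (σ t * w.2) + nm σ t * w.1 (i0, b)) * w.1 (i0, b) := by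
    rw [← Finset.sum_ite_eq' Finset.univ i0 (fun _ => -(tr σ (σ t * w.2) + nm σ t * w.1 (i0, b)) *
      w.1 (i0, b)) |>.trans (if_pos (Finset.mem_univ _)), ← Finset.sum_add_distrib]
    refine Finset.sum_congr rfl fun i _ => ?_
    by_cases hi : i = i0
    · subst hi
      cases b <;> simp [smW, mate] <;> ring
    · simp [smW, mate, hi]
  rw [qf, qf, hs]
  apply Subtype.ext
  simp only [smW, Subfield.coe_add, Subfield.coe_mul, coe_nm, Subfield.coe_neg, coe_tr, map_add,
    map_mul, hσ.out, fld_fix]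
  ring

theorem qf_lm {k : ℕ} {g h : Hx k} (hgh : g.1 ≠ h.1) (a : Fld σ) (w : MS σ k) :
    qf σ (lmW σ g h a w) = qf σ w := by
  obtain ⟨i0, b⟩ := g
  obtain ⟨i1, c⟩ := h
  replace hgh : i0 ≠ i1 := hgh
  rw [qf, qf]
  congr 1
  rw [← sub_eq_zero, ← Finset.sum_sub_distrib,
    Finset.sum_eq_add_of_mem i0 i1 (Finset.mem_univ _) (Finset.mem_univ _) hgh
      (fun i _ hi => by simp [lmW, mate, hi.1, hi.2])]
  cases b <;> cases c <;> simp [lmW, mate, hgh, hgh.symm] <;> ring

theorem tr_surj [Finite K] (hne : ∃ x : K, σ x ≠ x) (s : Fld σ) : ∃ x : K, tr σ x = s := by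
  obtain ⟨y, hy⟩ : ∃ y : K, y + σ y ≠ 0 := by
    by_contra hc
    push Not at hc
    have h1 := hc 1
    rw [map_one] at h1
    obtain ⟨x, hx⟩ := hne
    exact hx (by linear_combination hc x - x * h1)
  have hfix : σ (y + σ y) = y + σ y := by rw [map_add, hσ.out, add_comm]
  refine ⟨(s : K) / (y + σ y) * y, Subtype.ext ?_⟩
  rw [coe_tr, map_mul, map_div₀, fld_fix, hfix]
  field_simp

variable {k : ℕ}

/-- The base coordinate. -/
abbrev j0 : Hx (k + 1) := (0, true)

/-- Vectors in the base plane. -/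
def base (a b : Fld σ) : MS σ (k + 1) :=
  (fun i => if i = j0 then a else if i = mate j0 then b else 0, 0)

theorem exists_ne_j (w : MS σ (k + 1)) (hw : w ≠ 0) (hne : ∃ x : K, σ x ≠ x) [Finite K] :
    ∃ w', Conn σ w w' ∧ w'.1 j0 ≠ 0 := by
  by_cases hj : w.1 j0 ≠ 0
  · exact ⟨w, fun _ _ => Iff.rfl, hj⟩
  rw [not_not] at hj
  by_cases hm : w.1 (mate j0) ≠ 0
  · -- make the anisotropic part zero, or some other coordinate of the base non-zero
    by_cases hc : w.2 = 0
    · refine ⟨smW σ (mate j0) 1 w, conn_sm σ _ _ w, ?_⟩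
      intro h
      have h' := congrArg (fun x : Fld σ => (x : K)) h
      simp [smW, hj, hc] at h'
      exact hm (Subtype.ext (by simpa using h'))
    · refine ⟨smW σ (mate j0) (-w.2 / (w.1 (mate j0) : K)) w, conn_sm σ _ _ w, fun h => ?_⟩
      have h' := congrArg (fun x : Fld σ => (x : K)) h
      have hm' : (w.1 (mate j0) : K) ≠ 0 := fun h0 => hm (Subtype.ext h0)
      simp only [smW, mate_mate, if_pos, hj, zero_add, Subfield.coe_neg, Subfield.coe_add,
        Subfield.coe_mul, coe_tr, coe_nm, map_mul, map_div₀, map_neg, hσ.out, fld_fix,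
        ZeroMemClass.coe_zero] at h'
      field_simp at h'
      have : w.2 * σ w.2 = 0 := by linear_combination h'
      rcases mul_eq_zero.1 this with h0 | h0
      · exact hc h0
      · exact hc (by simpa using congrArg σ h0)
  rw [not_not] at hm
  by_cases hh : ∃ h : Hx (k + 1), w.1 h ≠ 0
  · obtain ⟨h, hh⟩ := hh
    have h0 : h.1 ≠ 0 := by
      intro h0
      obtain ⟨i, b⟩ := h
      simp only at h0
      subst h0
      cases b
      · exact hh hm
      · exact hh hj
    refine ⟨lmW σ h j0 1 w, conn_lm σ h0 _ w, ?_⟩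
    simp [lmW, hj, hh]
  push Not at hh
  have hc : w.2 ≠ 0 := fun h => hw (Prod.ext (funext hh) h)
  obtain ⟨x, hx⟩ := tr_surj σ hne 1
  refine ⟨smW σ (mate j0) (σ (x / w.2)) w, conn_sm σ _ _ w, ?_⟩
  have e : tr σ (σ (σ (x / w.2)) * w.2) = 1 := by
    rw [hσ.out, div_mul_cancel₀ _ hc, hx]
  simp only [smW, mate_mate, if_pos, hm, mul_zero, add_zero, e, hj, zero_add]
  exact neg_ne_zero.2 one_ne_zero

theorem conn_base [Finite K] (w : MS σ (k + 1)) (hj : w.1 j0 ≠ 0) :
    ∃ b, Conn σ w (base σ (w.1 j0) b) ∧ qf σ (base σ (w.1 j0) b : MS σ (k + 1)) = qf σ w := by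
  classical
  have hjK : (w.1 j0 : K) ≠ 0 := fun h0 => hj (Subtype.ext h0)
  set u := smW σ j0 (-w.2 / (w.1 j0 : K)) w with hu
  have hu2 : u.2 = 0 := by
    simp [hu, smW, div_mul_cancel₀ _ hjK]
  have huj : u.1 j0 = w.1 j0 := by simp [hu, smW, mate]
  have huq : qf σ u = qf σ w := qf_sm σ _ _ _
  suffices ∀ S : Finset (Hx (k + 1)), ∃ v, Conn σ u v ∧ qf σ v = qf σ u ∧ v.2 = 0 ∧
      v.1 j0 = u.1 j0 ∧ ∀ h ∈ S, h.1 ≠ 0 → v.1 h = 0 by
    obtain ⟨v, hv, hq, h2, h3, h4⟩ := this Finset.univ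
    refine ⟨v.1 (mate j0), ?_⟩
    have e : base σ (w.1 j0) (v.1 (mate j0)) = v := by
      refine Prod.ext (funext fun ⟨i, b⟩ => ?_) h2.symm
      by_cases hi : i = 0
      · subst hi
        cases b <;> simp [base, mate, ← huj, ← h3]
      · rw [h4 (i, b) (Finset.mem_univ _) hi]
        simp [base, mate, hi]
    rw [e]
    exact ⟨(conn_sm σ _ _ w).trans σ hv, hq.trans huq⟩
  intro S
  induction S using Finset.induction with
  | empty => exact ⟨u, fun _ _ => Iff.rfl, rfl, hu2, rfl, by simp⟩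
  | insert h S hS ih =>
    obtain ⟨v, hv, hq, h2, h3, h4⟩ := ih
    by_cases h0 : h.1 = 0
    · refine ⟨v, hv, hq, h2, h3, fun x hx hx0 => ?_⟩
      rcases Finset.mem_insert.1 hx with rfl | hx
      · exact absurd h0 hx0
      · exact h4 x hx hx0
    have hne : (j0 : Hx (k + 1)).1 ≠ h.1 := fun e => h0 e.symm
    have hvj : v.1 j0 ≠ 0 := by rw [h3, huj]; exact hj
    refine ⟨lmW σ j0 h (-(v.1 h / v.1 j0)) v, hv.trans σ (conn_lm σ hne _ v),
      (qf_lm σ hne _ v).trans hq, h2, ?_, fun x hx hx0 => ?_⟩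
    · have e1 : (j0 : Hx (k + 1)) ≠ h := fun e => hne (congrArg Prod.fst e)
      simp [lmW, e1, mate, h3]
    · have e2 : x ≠ mate j0 := fun e => hx0 (congrArg Prod.fst e)
      by_cases hxh : x = h
      · subst hxh
        simp [lmW, div_mul_cancel₀ _ hvj]
      · rcases Finset.mem_insert.1 hx with rfl | hx
        · exact absurd rfl hxh
        · simp [lmW, hxh, e2, h4 x hx hx0]

theorem base_qf (a b : Fld σ) : qf σ (base σ a b : MS σ (k + 1)) = a * b := by
  rw [qf, Finset.sum_eq_single 0 (fun i _ hi => by simp [base, mate, hi]) (by simp)]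
  apply Subtype.ext
  simp [base, mate]

/-- Any first coordinate is reached. -/
theorem conn_change [Finite K] (hne : ∃ x : K, σ x ≠ x)
    (hnm : ∀ s : Fld σ, ∃ x : K, nm σ x = s) (a b : Fld σ) (ha : a ≠ 0) (a' : Fld σ) :
    ∃ w : MS σ (k + 1), Conn σ (base σ a b) w ∧ w.1 j0 = a' ∧ qf σ w = a * b := by
  classical
  have hj : mate (mate (j0 : Hx (k + 1))) = j0 := mate_mate _
  have haK : (a : K) ≠ 0 := fun h0 => ha (Subtype.ext h0)
  obtain ⟨t, ht⟩ : ∃ t : K, nm σ t = if b = 0 then 1 else b / a := hnm _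
  have ht0 : t ≠ 0 := fun h0 => by
    subst h0
    have h1 : nm σ (0 : K) = 0 := Subtype.ext (by simp)
    rw [h1] at ht
    split_ifs at ht with hb
    · exact zero_ne_one ht
    · exact div_ne_zero hb ha ht.symm
  set w1 := smW σ j0 t (base σ a b : MS σ (k + 1)) with hw1
  have e1 : w1.1 j0 = a := by simp [hw1, smW, base, mate]
  have e2 : w1.2 = t * (a : K) := by simp [hw1, smW, base]
  have e3 : w1.1 (mate j0) = b - nm σ t * a := by
    have : tr σ (0 : K) = 0 := Subtype.ext (by simp)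
    simp [hw1, smW, base, mate, this, sub_eq_add_neg]
  obtain ⟨u, hu⟩ : ∃ u : K, a - (tr σ (σ u * w1.2) + nm σ u * w1.1 (mate j0)) = a' := by
    by_cases hb : b = 0
    · rw [if_pos hb] at ht
      obtain ⟨y, hy⟩ := hnm (a' / a)
      refine ⟨(1 - y) / σ t, Subtype.ext ?_⟩
      have h1 : (y * σ y : K) = (a' : K) / a := congrArg Subtype.val hy
      have h2 : (t * σ t : K) = 1 := congrArg Subtype.val ht
      have hst : σ t ≠ 0 := by simpa using ht0
      rw [e2, e3, hb]
      simp only [AddSubgroupClass.coe_sub, Subfield.coe_add, Subfield.coe_mul, coe_tr, coe_nm,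
        map_mul, map_div₀, map_inv₀, map_sub, map_one, hσ.out, fld_fix, ZeroMemClass.coe_zero]
      rw [eq_div_iff haK] at h1
      field_simp
      linear_combination (t * σ t) * h1
    · rw [if_neg hb] at ht
      obtain ⟨x, hx⟩ := tr_surj σ hne (1 - a' / a)
      refine ⟨σ (x / t), ?_⟩
      rw [e2, e3, ht, div_mul_cancel₀ _ ha, sub_self, mul_zero, add_zero, hσ.out]
      apply Subtype.ext
      have h1 : (x + σ x : K) = 1 - (a' : K) / a := congrArg Subtype.val hx
      have hst : σ t ≠ 0 := by simpa using ht0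
      simp only [AddSubgroupClass.coe_sub, coe_tr, map_mul, map_div₀, fld_fix]
      field_simp at h1 ⊢
      linear_combination -h1
  refine ⟨smW σ (mate j0) u w1, (conn_sm σ _ _ _).trans σ (conn_sm σ _ _ _), ?_, ?_⟩
  · rw [← hu]
    simp [smW, e1, hj, sub_eq_add_neg]
  · rw [qf_sm, hw1, qf_sm, base_qf]

/-- The invariant predicates only see the value of the form. -/
theorem conn_of_qf [Finite K] (hne : ∃ x : K, σ x ≠ x) (hnm : ∀ s : Fld σ, ∃ x : K, nm σ x = s)
    {v w : MS σ (k + 1)} (hv : v ≠ 0) (hw : w ≠ 0) (h : qf σ v = qf σ w) : Conn σ v w := by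
  have key : ∀ u : MS σ (k + 1), u ≠ 0 → Conn σ u (base σ 1 (qf σ u)) := by
    intro u hu
    -- first make the base coordinate non-zero, then equal to one
    obtain ⟨u1, h1, hj⟩ := exists_ne_j σ u hu hne
    obtain ⟨b, h2, h2q⟩ := conn_base σ u1 hj
    have hq1 : qf σ u1 = qf σ u := h1 (fun x => qf σ x = qf σ u)
      ⟨fun g g' hg a x => by simp only [qf_lm σ hg], fun g t x => by simp only [qf_sm]⟩ |>.1 rfl
    obtain ⟨u2, h3, h3j, h3q⟩ := conn_change σ hne hnm (k := k) (u1.1 j0) b hj 1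
    obtain ⟨b', h4, h4q⟩ := conn_base σ u2 (by rw [h3j]; exact one_ne_zero)
    rw [h3j] at h4 h4q
    have e : b' = qf σ u := by
      rw [← hq1, ← h2q, base_qf, ← h3q, ← h4q, base_qf, one_mul]
    rw [e] at h4
    exact ((h1.trans σ h2).trans σ h3).trans σ h4
  have := key w hw
  rw [← h] at this
  exact (key v hv).trans σ this.symm

end CfsgLib.TwistESixDegree
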