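import Cfsg.Agent.RepBounds.Proj
import Cfsg.Agent.Characters.Integrality

/-!
# The representation of the centraliser of an idempotent on its range

The traces of its elements are algebraic integers; an involution which is a commutator there has
trace congruent to the dimension modulo four.
-/

set_option autoImplicit false
set_option linter.unusedSectionVars false

namespace CfsgLib.TwistESixDegree

open Module CfsgLib.RepBounds

variable {G : Type*} [Group G] {V : Type*} [AddCommGroup V] [Module ℂ V] [FiniteDimensional ℂ V]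
  (ρ : Representation ℂ G V)

/-- The elements commuting with an operator. -/
def cent (e : End ℂ V) : Subgroup G where
  carrier := {g | ρ g * e = e * ρ g}
  one_mem' := by simp
  mul_mem' {a b} ha hb := by
    show ρ (a * b) * e = e * ρ (a * b)
    rw [map_mul, mul_assoc, hb, ← mul_assoc, ha, mul_assoc]
  inv_mem' {a} ha := by
    show ρ a⁻¹ * e = e * ρ a⁻¹
    have h1 : ρ a⁻¹ * ρ a = 1 := by rw [← map_mul, inv_mul_cancel, map_one]
    have h2 : ρ a * ρ a⁻¹ = 1 := by rw [← map_mul, mul_inv_cancel, map_one]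
    calc ρ a⁻¹ * e = ρ a⁻¹ * (e * (ρ a * ρ a⁻¹)) := by rw [h2, mul_one]
      _ = ρ a⁻¹ * (ρ a * e) * ρ a⁻¹ := by rw [show ρ a * e = e * ρ a from ha]; simp only [mul_assoc]
      _ = e * ρ a⁻¹ := by rw [← mul_assoc, h1, one_mul]

theorem mem_cent {e : End ℂ V} {g : G} : g ∈ cent ρ e ↔ ρ g * e = e * ρ g := Iff.rfl

/-- The action on the range. -/
noncomputable def resRep (e : End ℂ V) : Representation ℂ ↥(cent ρ e) (LinearMap.range e) where
  toFun g := (ρ g.1).restrict (p := LinearMap.range e) (q := LinearMap.range e) fun x ⟨y, hy⟩ =>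
    ⟨ρ g.1 y, by rw [← hy]; exact (LinearMap.congr_fun g.2 y).symm⟩
  map_one' := by ext x; simp
  map_mul' a b := by ext x; simp

theorem trace_resRep {e : End ℂ V} (he : e * e = e) (g : ↥(cent ρ e)) :
    LinearMap.trace ℂ _ (resRep ρ e g) = LinearMap.trace ℂ V (ρ g.1 * e) := by
  have hm : ∀ x, (ρ g.1 * e) x ∈ LinearMap.range e := fun x => ⟨ρ g.1 x, by
    rw [show ρ g.1 * e = e * ρ g.1 from g.2]; rfl⟩
  rw [← LinearMap.trace_restrict_eq_of_forall_mem (LinearMap.range e) (ρ g.1 * e) hm]
  congr 1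
  ext ⟨x, y, rfl⟩
  show ρ g.1 (e y) = ρ g.1 (e (e y))
  rw [← Module.End.mul_apply e e, he]

theorem isIntegral_trace_mul [Finite G] {e : End ℂ V} (he : e * e = e) {g : G}
    (hg : ρ g * e = e * ρ g) : IsIntegral ℤ (LinearMap.trace ℂ V (ρ g * e)) := by
  rw [← trace_resRep ρ he ⟨g, hg⟩]
  exact Characters.char_isIntegral (resRep ρ e) _

theorem det_one_sub_two {W : Type*} [AddCommGroup W] [Module ℂ W] [FiniteDimensional ℂ W]
    {P : End ℂ W} (hP : P * P = P) : LinearMap.det (1 - (2 : ℂ) • P) = (-1) ^ rnk P := by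
  have hp : LinearMap.IsProj (LinearMap.range P) P :=
    (LinearMap.isProj_range_iff_isIdempotentElem P).2 hP
  set e := (LinearMap.range P).prodEquivOfIsCompl (LinearMap.ker P) hp.isCompl
  set p : End ℂ (LinearMap.range P × LinearMap.ker P) := LinearMap.prodMap LinearMap.id 0
  have h1 : P = e.toLinearMap ∘ₗ p ∘ₗ e.symm.toLinearMap := hp.eq_conj_prod_map'
  have h2 : (1 : End ℂ W) - (2 : ℂ) • P =
      e.toLinearMap ∘ₗ (1 - (2 : ℂ) • p) ∘ₗ e.symm.toLinearMap := by
    conv_lhs => rw [h1]
    ext x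
    simp [LinearMap.comp_apply]
  rw [h2, LinearMap.det_conj, show (1 : End ℂ (LinearMap.range P × LinearMap.ker P)) - (2 : ℂ) • p =
      LinearMap.prodMap (((-1 : ℂ)) • LinearMap.id) LinearMap.id from ?_, LinearMap.det_prodMap,
    LinearMap.det_smul, LinearMap.det_id, LinearMap.det_id, mul_one, mul_one, rnk]
  refine LinearMap.ext fun x => Prod.ext ?_ ?_
  · simp [p, two_smul]
  · simp [p]

/-- An involution which is a commutator has trace congruent to the dimension modulo four. -/
theorem trace_commutator_involution {e : End ℂ V} (he : e * e = e) {g s u : G}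
    (hs : ρ s * e = e * ρ s) (hu : ρ u * e = e * ρ u) (hg : g = s * u * s⁻¹ * u⁻¹) (h2 : g * g = 1) :
    ∃ c : ℕ, (rnk e : ℂ) - LinearMap.trace ℂ V (ρ g * e) = 4 * c ∧ 2 * c ≤ rnk e := by
  set S : ↥(cent ρ e) := ⟨s, hs⟩
  set U : ↥(cent ρ e) := ⟨u, hu⟩
  set g' : ↥(cent ρ e) := S * U * S⁻¹ * U⁻¹ with hg'
  have hgv : g'.1 = g := hg.symm
  set X := resRep ρ e g'
  have hX : X * X = 1 := by
    rw [← map_mul, show g' * g' = 1 from Subtype.ext (by rw [Subgroup.coe_mul, hgv, h2]; rfl), map_one]
  have hdet : LinearMap.det X = 1 := by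
    simp only [X, hg', map_mul]
    have h3 : LinearMap.det (resRep ρ e S) * LinearMap.det (resRep ρ e S⁻¹) = 1 := by
      rw [← map_mul, ← map_mul, mul_inv_cancel, map_one, map_one]
    have h4 : LinearMap.det (resRep ρ e U) * LinearMap.det (resRep ρ e U⁻¹) = 1 := by
      rw [← map_mul, ← map_mul, mul_inv_cancel, map_one, map_one]
    linear_combination LinearMap.det (resRep ρ e U) * LinearMap.det (resRep ρ e U⁻¹) * h3 + h4
  set P : End ℂ (LinearMap.range e) := (2 : ℂ)⁻¹ • (1 - X) with hPdef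
  have hP : P * P = P := by
    rw [hPdef, smul_mul_smul_comm, sub_mul, one_mul, mul_sub, mul_one, hX]
    ext x
    simp
    module
  have hXP : X = 1 - (2 : ℂ) • P := by
    rw [hPdef, smul_smul, mul_inv_cancel₀ two_ne_zero, one_smul, sub_sub_cancel]
  rw [hXP, det_one_sub_two hP] at hdet
  obtain ⟨c, hc⟩ : Even (rnk P) := by
    rcases Nat.even_or_odd (rnk P) with h | h
    · exact h
    · rw [h.neg_one_pow] at hdet
      norm_num at hdet
  refine ⟨c, ?_, ?_⟩
  · have h5 := trace_resRep ρ he g'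
    rw [hgv] at h5
    rw [← h5, show resRep ρ e g' = X from rfl, hXP, map_sub, map_smul, rnk_trace hP,
      LinearMap.trace_one, hc, smul_eq_mul, show finrank ℂ (LinearMap.range e) = rnk e from rfl]
    push_cast
    ring
  · have := rnk_le_finrank P
    rw [hc, show finrank ℂ (LinearMap.range e) = rnk e from rfl] at this
    omega

end CfsgLib.TwistESixDegree
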