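import Cfsg.Agent.TwistESixDegree.Geometry
import Cfsg.Agent.TwistESixDegree.SubRep

/-!
# Families inside the moves of a larger one

When the roots of a family are among the roots of the moves of another, it lives in the centraliser of
the fixed projector of that family, and so acts on its fixed space.
-/

set_option autoImplicit false
set_option linter.unusedSectionVars false

namespace CfsgLib.TwistESixDegree

open Cfsg.Lie CfsgLib.Chevalley CfsgLib.GraphTwist Module CfsgLib.RepBounds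
open scoped MatrixGroups

section General

variable {K : Type*} [Field K] [Fintype K] {σ : K ≃+* K} [hσ : Fact (∀ x : K, σ (σ x) = x)] {k : ℕ}
  {G : Type*} [Group G]

/-- A family inside a subgroup. -/
noncomputable def Fam.restrict (𝔉 : Fam σ k G) (C : Subgroup G) (hP : ∀ v, 𝔉.P v ∈ C)
    (hL : ∀ g h a, 𝔉.L g h a ∈ C) (hS : ∀ g t, 𝔉.S g t ∈ C) : Fam σ k ↥C where
  P :=
    { toFun := fun v => ⟨𝔉.P v, hP v⟩
      map_zero_eq_one' := Subtype.ext (AddChar.map_zero_eq_one _)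
      map_add_eq_mul' := fun u v => Subtype.ext (AddChar.map_add_eq_mul _ u v) }
  L g h a := ⟨𝔉.L g h a, hL g h a⟩
  S g t := ⟨𝔉.S g t, hS g t⟩
  conjL g h hgh a v := Subtype.ext (𝔉.conjL g h hgh a v)
  conjS g t v := Subtype.ext (𝔉.conjS g t v)

variable {V : Type*} [AddCommGroup V] [Module ℂ V] [FiniteDimensional ℂ V]
  (ψ : AddChar (Fld σ) ℂ) (𝔉 : Fam σ k G) (ρ : Representation ℂ G V)

theorem L_mem_cent {g h : Hx k} (hgh : g.1 ≠ h.1) (a : Fld σ) {w : MS σ k}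
    (hw : lmW σ g h (-a) w = w) : 𝔉.L g h a ∈ cent ρ (pr σ ψ 𝔉 ρ w) := by
  rw [mem_cent, L_pr σ ψ 𝔉 ρ hgh a w, hw]

theorem S_mem_cent (g : Hx k) (t : K) {w : MS σ k} (hw : smW σ g (-t) w = w) :
    𝔉.S g t ∈ cent ρ (pr σ ψ 𝔉 ρ w) := by
  rw [mem_cent, S_pr σ ψ 𝔉 ρ g t w, hw]

theorem lmW_zero (g h : Hx k) (a : Fld σ) : lmW σ g h a (0 : MS σ k) = 0 :=
  Prod.ext (funext fun i => by simp [lmW]) rfl

theorem smW_zero (g : Hx k) (t : K) : smW σ g t (0 : MS σ k) = 0 := by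
  refine Prod.ext (funext fun i => Subtype.ext ?_) (by simp [smW])
  simp [smW]
  intro _
  exact Subtype.ext (by simp)

end General

namespace GeoData

variable {k l : ℕ}

/-- A root of a move. -/
def IsMove (𝒢 : GeoData k) (r : Root chevE6) : Prop :=
  (∃ g h : Hx k, g.1 ≠ h.1 ∧ (𝒢.lr g h).1 = r) ∨ ∃ g : Hx k, (𝒢.sr g).1 = r

/-- All the roots of a family are roots of moves of another. -/
def Sub (𝒢' : GeoData l) (𝒢 : GeoData k) : Prop :=
  (∀ h, 𝒢.IsMove (𝒢'.Y (.inl h))) ∧ 𝒢.IsMove (𝒢'.Y (.inr false)) ∧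
    (∀ g h : Hx l, g.1 ≠ h.1 → 𝒢.IsMove (𝒢'.lr g h).1) ∧ ∀ g : Hx l, 𝒢.IsMove (𝒢'.sr g).1

instance (𝒢' : GeoData l) (𝒢 : GeoData k) : Decidable (Sub 𝒢' 𝒢) := by
  unfold Sub IsMove; infer_instance

variable {K : Type*} [Field K] [Fintype K] (Φ : FieldTwist setupE6 K)
  {𝒢 : GeoData k} {𝒢' : GeoData l} (O : 𝒢.Ok) (O' : 𝒢'.Ok)

theorem oX_mem_of_isMove (C : Subgroup ↥Φ.tG)
    (hL : ∀ g h : Hx k, g.1 ≠ h.1 → ∀ a, (fam Φ O).L g h a ∈ C)
    (hS : ∀ g t, (fam Φ O).S g t ∈ C) {r : Root chevE6} (hr : 𝒢.IsMove r) {t : K}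
    (ht : Φ.Adm r t) : Φ.oX r t ∈ C.map Φ.tG.subtype := by
  rcases hr with ⟨g, h, hgh, rfl⟩ | ⟨g, rfl⟩
  · have hl := sign_cast (K := K) O (O.long g h hgh).2.1
    have hfix : Φ.f (((𝒢.lr g h).2 : K) * t) = ((𝒢.lr g h).2 : K) * t := by
      rw [map_mul, map_intCast, ht (O.long g h hgh).1]
    refine ⟨_, hL g h hgh ⟨_, hfix⟩, ?_⟩
    show (((fam Φ O).L g h ⟨_, hfix⟩ : ↥Φ.tG) : GL chevE6.Idx K) = _
    rw [fam_L_val Φ O hgh, Φ.oX_eq_X (O.long g h hgh).1, ← mul_assoc, hl, one_mul]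
  · have hl := sign_cast (K := K) O (O.short g).2.1
    refine ⟨_, hS g (((𝒢.sr g).2 : K) * t), ?_⟩
    show Φ.oX _ _ = _
    rw [← mul_assoc, hl, one_mul]

include O O' in
/-- A family inside the moves of another. -/
theorem sub_mem (hsub : Sub 𝒢' 𝒢) (C : Subgroup ↥Φ.tG)
    (hL : ∀ g h : Hx k, g.1 ≠ h.1 → ∀ a, (fam Φ O).L g h a ∈ C)
    (hS : ∀ g t, (fam Φ O).S g t ∈ C) :
    (∀ v, (fam Φ O').P v ∈ C) ∧ (∀ g h a, (fam Φ O').L g h a ∈ C) ∧
      ∀ g t, (fam Φ O').S g t ∈ C := by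
  classical
  have key : ∀ x : ↥Φ.tG, (x : GL chevE6.Idx K) ∈ C.map Φ.tG.subtype → x ∈ C := fun x ⟨y, hy, e⟩ => by
    rwa [show x = y from Subtype.ext e.symm]
  have hm : ∀ {r : Root chevE6}, 𝒢.IsMove r → ∀ {t : K}, Φ.Adm r t → Φ.oX r t ∈ C.map Φ.tG.subtype :=
    fun hr _ ht => oX_mem_of_isMove Φ O C hL hS hr ht
  refine ⟨fun v => key _ ?_, fun g h a => ?_, fun g t => key _ ?_⟩
  · show PY O'.ab (𝒢'.coord Φ v) ∈ _
    rw [← Finset.univ_sum_single (𝒢'.coord Φ v), Fintype.sum_sum_type, Fintype.sum_bool,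
      AddChar.map_add_eq_mul]
    refine mul_mem ?_ ?_
    · generalize (Finset.univ : Finset (Hx l)) = s
      induction s using Finset.induction with
      | empty => rw [Finset.sum_empty, AddChar.map_zero_eq_one]; exact one_mem _
      | insert h s hh ih =>
        rw [Finset.sum_insert hh, AddChar.map_add_eq_mul, PY_single O'.ab]
        refine mul_mem ?_ ih
        have hf := O'.fixY h
        rw [← eqX_of_fixed (Φ := Φ) hf]
        exact hm (hsub.1 h) fun _ => by simp [coord, map_mul, fld_fix]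
    · rw [AddChar.map_add_eq_mul, PY_single O'.ab, PY_single O'.ab]
      have hne : setupE6.σR (𝒢'.Y (.inr false)) ≠ 𝒢'.Y (.inr false) := by
        rw [O'.pairY.1]; exact O'.pairY.2.1
      have e := oX_two Φ hne v.2
      rw [O'.pairY.1] at e
      have hh : XE (𝒢'.Y (.inr true)) (𝒢'.coord Φ v (.inr true)) *
          XE (𝒢'.Y (.inr false)) (𝒢'.coord Φ v (.inr false)) = Φ.oX (𝒢'.Y (.inr false)) v.2 := by
        rw [e, (comm_nil (O'.ab (.inr true) (.inr false) (by simp)).1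
          (O'.ab (.inr true) (.inr false) (by simp)).2.1 (O'.ab (.inr true) (.inr false) (by simp)).2.2
          _ _ : Commute _ _).eq]
        simp [coord]
      rw [hh]
      exact hm hsub.2.1 fun h => absurd h hne
  · by_cases hgh : g.1 ≠ h.1
    · refine key _ ?_
      rw [fam_L_val Φ O' hgh, ← eqX_of_fixed (Φ := Φ) (O'.long g h hgh).1]
      exact hm (hsub.2.2.1 g h hgh) fun _ => by rw [map_mul, map_intCast, fld_fix]
    · show dite _ _ _ ∈ C
      rw [dif_neg hgh]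
      exact one_mem _
  · show Φ.oX _ _ ∈ _
    exact hm (hsub.2.2.2 g) fun h => absurd h (O'.short g).1

end GeoData

end CfsgLib.TwistESixDegree
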