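import Cfsg.Agent.TwistESixDegree.Elements
import Cfsg.Agent.TwistESixDegree.Defect
import Cfsg.Agent.TwistESixDegree.Restrict

/-!
# The moves between the first two planes

The elements exchanging such a move with a coordinate element, the elements commuting with it, and its
expression as a commutator.
-/

set_option autoImplicit false
set_option linter.unusedSectionVars false

namespace CfsgLib.TwistESixDegree

open Cfsg.Lie CfsgLib.Chevalley CfsgLib.GraphTwist Module CfsgLib.RepBounds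
open scoped MatrixGroups

theorem sub21 : GeoData.Sub geo2 geo1 := by decide +kernel

theorem sub32 : GeoData.Sub geo3 geo2 := by decide +kernel

set_option synthInstance.maxSize 1024 in
theorem move_nil1 :
    Nil (r6 53) (geo1.lr (0, false) (1, false)).1 ∧ Nil (r6 53) (geo1.lr (1, false) (0, false)).1 ∧
    ∀ b : Bool, Nil (r6 53) (geo1.lr (2, b) (0, false)).1 ∧ Nil (r6 53) (geo1.lr (2, b) (1, false)).1 ∧
      Nil (geo1.sr (2, b)).1 (r6 53) ∧ Nil (setupE6.σR (geo1.sr (2, b)).1) (r6 53) := by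
  decide +kernel

theorem move_nil2 :
    Nil (r6 44) (geo2.lr (0, false) (1, false)).1 ∧ Nil (r6 44) (geo2.lr (1, false) (0, false)).1 := by
  decide +kernel

theorem move_vals :
    geo1.lr (0, true) (1, false) = (r6 53, 1) ∧ geo1.sr (0, true) = (r6 48, 1) ∧
    geo1.sr (1, true) = (r6 40, -1) ∧ geo1.lr (0, true) (1, true) = (r6 46, 1) ∧
    geo1.lr (1, true) (0, true) = (r6 25, 1) ∧ geo1.Y (.inl (1, true)) = r6 70 ∧
    geo1.sg (1, true) = 1 ∧
    geo2.lr (0, true) (1, false) = (r6 44, 1) ∧ geo2.Y (.inl (0, true)) = r6 53 ∧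
    geo2.sg (0, true) = 1 ∧ geo2.Y (.inl (1, true)) = r6 51 ∧ geo2.sg (1, true) = 1 ∧
    geo3.Y (.inl (0, true)) = r6 44 ∧ geo3.sg (0, true) = 1 ∧
    setupE6.σR (r6 60) = r6 60 ∧ setupE6.σR (r6 11) = r6 11 := by
  decide +kernel

variable {K : Type*} [Field K] [Fintype K] (Φ : FieldTwist setupE6 K)

/-- The first family. -/
noncomputable abbrev fam1 : Fam Φ.f 3 ↥Φ.tG := GeoData.fam Φ geo1_ok

/-- The second family. -/
noncomputable abbrev fam2 : Fam Φ.f 2 ↥Φ.tG := GeoData.fam Φ geo2_ok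

/-- The third family. -/
noncomputable abbrev fam3 : Fam Φ.f 1 ↥Φ.tG := GeoData.fam Φ geo3_ok

theorem L1_val (a : Fld Φ.f) :
    ((fam1 Φ).L (0, true) (1, false) a : GL chevE6.Idx K) = XE (r6 53) (a : K) := by
  rw [GeoData.fam_L_val Φ geo1_ok (by simp), move_vals.1]
  simp

theorem L2_val (a : Fld Φ.f) :
    ((fam2 Φ).L (0, true) (1, false) a : GL chevE6.Idx K) = XE (r6 44) (a : K) := by
  rw [GeoData.fam_L_val Φ geo2_ok (by simp), move_vals.2.2.2.2.2.2.2.1]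
  simp

theorem P2_val : (fam2 Φ).P (single Φ.f (0, true) 1) = (fam1 Φ).L (0, true) (1, false) 1 := by
  apply Subtype.ext
  rw [GeoData.fam_single_val Φ geo2_ok, L1_val, move_vals.2.2.2.2.2.2.2.2.1,
    move_vals.2.2.2.2.2.2.2.2.2.1]
  simp

theorem P3_val : (fam3 Φ).P (single Φ.f (0, true) 1) = (fam2 Φ).L (0, true) (1, false) 1 := by
  apply Subtype.ext
  rw [GeoData.fam_single_val Φ geo3_ok, L2_val, move_vals.2.2.2.2.2.2.2.2.2.2.2.2.1,
    move_vals.2.2.2.2.2.2.2.2.2.2.2.2.2.1]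
  simp

theorem exists_adj1 : ∃ N : ↥Φ.tG,
    N * (fam1 Φ).L (0, true) (1, false) 1 = (fam1 Φ).P (single Φ.f (1, true) (-1)) * N := by
  have hv := move_vals.2.2.2.2.2.2.2.2.2.2.2.2.2.2
  have m : ∀ {r : Root chevE6}, setupE6.σR r = r → ∀ {t : K}, Φ.f t = t → XE r t ∈ Φ.tG :=
    fun hr t ht => by
      rw [← eqX_of_fixed (Φ := Φ) hr]
      exact Φ.oX_mem_tG' setupE6_faithful _ fun _ => ht
  refine ⟨⟨_, mul_mem (mul_mem (m hv.1 (map_one Φ.f)) (m hv.2 (t := (-1 : K)) (by rw [map_neg, map_one])))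
    (m hv.1 (map_one Φ.f))⟩, Subtype.ext ?_⟩
  show XE (r6 60) 1 * XE (r6 11) (-1) * XE (r6 60) 1 *
      ((fam1 Φ).L (0, true) (1, false) 1 : GL chevE6.Idx K) =
    ((fam1 Φ).P (single Φ.f (1, true) (-1)) : GL chevE6.Idx K) *
      (XE (r6 60) 1 * XE (r6 11) (-1) * XE (r6 60) 1)
  rw [L1_val, GeoData.fam_single_val Φ geo1_ok, move_vals.2.2.2.2.2.1, move_vals.2.2.2.2.2.2.1,
    conj_adj adj1 (by norm_num)]
  simp

theorem adj2_conj :
    (fam1 Φ).L (0, true) (1, true) 1 * (fam1 Φ).L (1, true) (0, true) (-1) *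
        (fam1 Φ).L (0, true) (1, true) 1 * (fam2 Φ).L (0, true) (1, false) 1 =
      (fam2 Φ).P (single Φ.f (1, true) 1) *
        ((fam1 Φ).L (0, true) (1, true) 1 * (fam1 Φ).L (1, true) (0, true) (-1) *
          (fam1 Φ).L (0, true) (1, true) 1) := by
  apply Subtype.ext
  simp only [Subgroup.coe_mul]
  rw [L2_val, GeoData.fam_single_val Φ geo2_ok, move_vals.2.2.2.2.2.2.2.2.2.2.1,
    move_vals.2.2.2.2.2.2.2.2.2.2.2.1, GeoData.fam_L_val Φ geo1_ok (by simp),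
    GeoData.fam_L_val Φ geo1_ok (by simp), move_vals.2.2.2.1, move_vals.2.2.2.2.1]
  have h := conj_adj (K := K) adj2 (by norm_num) 1
  simpa using h

theorem commOk1 : CommOk (fam1 Φ) ((fam1 Φ).L (0, true) (1, false) 1) := by
  obtain ⟨n01, n10, hn⟩ := move_nil1
  have hL : ∀ {g h : Hx 3}, g.1 ≠ h.1 → Nil (r6 53) (geo1.lr g h).1 → ∀ a,
      Commute ((fam1 Φ).L (0, true) (1, false) 1) ((fam1 Φ).L g h a) := fun hgh n a =>
    Subtype.ext (by
      rw [Subgroup.coe_mul, Subgroup.coe_mul, L1_val, GeoData.fam_L_val Φ geo1_ok hgh]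
      exact (n.commute _ _).eq)
  refine ⟨hL (by simp) n01, hL (by simp) n10, fun i a => ?_, fun g h a hgh =>
    absurd (Subsingleton.elim g.1 h.1) hgh, fun i t => ?_⟩
  · have hi : (up2 i : Hx 3) = (2, i.2) := Prod.ext (by fin_cases i <;> rfl) rfl
    rw [hi]
    exact ⟨hL (by simp [Fin.ext_iff]) (hn i.2).1 a, hL (by simp [Fin.ext_iff]) (hn i.2).2.1 a⟩
  · have hi : (up2 i : Hx 3) = (2, i.2) := Prod.ext (by fin_cases i <;> rfl) rfl
    rw [hi]
    refine Subtype.ext ?_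
    rw [Subgroup.coe_mul, Subgroup.coe_mul, L1_val]
    show _ * Φ.oX _ _ = Φ.oX _ _ * _
    exact (oX_commute Φ (geo1_ok.short (2, i.2)).1 (hn i.2).2.2.1 (hn i.2).2.2.2 _ _).eq.symm

theorem commOk2 : CommOk (k := 0) (fam2 Φ) ((fam2 Φ).L (0, true) (1, false) 1) := by
  have hL : ∀ {g h : Hx 2}, g.1 ≠ h.1 → Nil (r6 44) (geo2.lr g h).1 → ∀ a,
      Commute ((fam2 Φ).L (0, true) (1, false) 1) ((fam2 Φ).L g h a) := fun hgh n a =>
    Subtype.ext (by
      rw [Subgroup.coe_mul, Subgroup.coe_mul, L2_val, GeoData.fam_L_val Φ geo2_ok hgh]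
      exact (n.commute _ _).eq)
  exact ⟨hL (by simp) move_nil2.1, hL (by simp) move_nil2.2, fun i => i.1.elim0,
    fun g => g.1.elim0, fun i => i.1.elim0⟩

theorem L1_commutator (hne : ∃ x : K, Φ.f x ≠ x) : ∃ u a : K,
    (fam1 Φ).L (0, true) (1, false) 1 = (fam1 Φ).S (0, true) u * (fam1 Φ).S (1, true) a *
      ((fam1 Φ).S (0, true) u)⁻¹ * ((fam1 Φ).S (1, true) a)⁻¹ := by
  obtain ⟨x, hx⟩ := tr_surj Φ.f hne 1
  refine ⟨1, -Φ.f x, ?_⟩
  have h : (fam1 Φ).S (0, true) 1 * (fam1 Φ).S (1, true) (-Φ.f x) =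
      (fam1 Φ).L (0, true) (1, false) 1 *
        ((fam1 Φ).S (1, true) (-Φ.f x) * (fam1 Φ).S (0, true) 1) := by
    apply Subtype.ext
    show Φ.oX (geo1.sr (0, true)).1 _ * Φ.oX (geo1.sr (1, true)).1 _ =
      _ * (Φ.oX (geo1.sr (1, true)).1 _ * Φ.oX (geo1.sr (0, true)).1 _)
    rw [L1_val, move_vals.2.1, move_vals.2.2.1]
    have e : (x : K) + Φ.f x = 1 := by
      have := congrArg Subtype.val hx
      simpa using this
    rw [oX_pair Φ pair_move]
    simp [fTwist_two, e]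
  rw [h]
  group

theorem L1_sq (h2 : (2 : K) = 0) :
    (fam1 Φ).L (0, true) (1, false) 1 * (fam1 Φ).L (0, true) (1, false) 1 = 1 := by
  apply Subtype.ext
  rw [Subgroup.coe_mul, L1_val, OneMemClass.coe_one,
    show XE (r6 53) (1 : K) * XE (r6 53) 1 = (XE (r6 53) (1 + 1) : GL chevE6.Idx K) from X_mul _ _ _ _,
    show (1 : K) + 1 = 0 by rw [← h2]; norm_num]
  exact X_zero _ _

end CfsgLib.TwistESixDegree
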