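import Cfsg.Agent.TwistESixDegree.Weights

/-!
# Dimensions and traces from the weights

Either the weights of non-zero value are present, or the non-zero weights are the singular vectors
with one multiplicity; then the trace of a coordinate element is known.
-/

set_option autoImplicit false
set_option linter.unusedSectionVars false

namespace CfsgLib.TwistESixDegree

open Module CfsgLib.RepBounds
open scoped Classical

/-- Parameters of the field. -/
structure FieldData {K : Type*} [Field K] (σ : K ≃+* K) (q : ℕ) : Prop where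
  two_le : 2 ≤ q
  card : Nat.card K = q ^ 2
  card_fld : Nat.card (Fld σ) = q
  frob : ∀ x, σ x = x ^ q

variable {K : Type*} [Field K] [Fintype K] {σ : K ≃+* K} [hσ : Fact (∀ x : K, σ (σ x) = x)] {q : ℕ}
  {k : ℕ}

theorem FieldData.moved (H : FieldData σ q) : ∃ x : K, σ x ≠ x := by
  by_contra hc
  push Not at hc
  have e : Nat.card (Fld σ) = Nat.card K :=
    Nat.card_congr ⟨fun x => x.1, fun x => ⟨x, hc x⟩, fun _ => rfl, fun _ => rfl⟩
  rw [H.card, H.card_fld] at e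
  have := H.two_le
  nlinarith

theorem FieldData.nm_surj' (H : FieldData σ q) (s : Fld σ) : ∃ x : K, nm σ x = s :=
  nm_surj σ H.two_le H.card H.card_fld H.frob s

theorem qf_base_ne {ν : Fld σ} : ((base σ 1 ν : MS σ (k + 1)) ≠ 0) ∧ qf σ (base σ 1 ν : MS σ (k + 1)) = ν := by
  refine ⟨fun h => ?_, by rw [base_qf, one_mul]⟩
  have := congrArg (fun w : MS σ (k + 1) => w.1 j0) h
  simp [base] at this

/-- The number of singular vectors, zero included. -/
noncomputable def nSing (σ : K ≃+* K) [Fact (∀ x : K, σ (σ x) = x)] (k : ℕ) : ℕ :=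
  Nat.card (Lvl σ k 0)

/-- Exchanging two planes and the vectors of a plane keeps the form. -/
def permE (π : Equiv.Perm (Fin k)) (flip : Bool) : MS σ k ≃ MS σ k where
  toFun w := (fun i => w.1 (π i.1, flip ^^ i.2), w.2)
  invFun w := (fun i => w.1 (π.symm i.1, flip ^^ i.2), w.2)
  left_inv w := by refine Prod.ext (funext fun i => ?_) rfl; simp
  right_inv w := by refine Prod.ext (funext fun i => ?_) rfl; simp

theorem qf_permE (π : Equiv.Perm (Fin k)) (flip : Bool) (w : MS σ k) :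
    qf σ (permE π flip w) = qf σ w := by
  rw [qf, qf]
  congr 1
  refine Fintype.sum_equiv π _ _ fun i => ?_
  cases flip <;> simp [permE, mul_comm]

theorem card_sing_coord (H : FieldData σ q) (h : Hx (k + 1)) (a : Fld σ) (ha : a ≠ 0) :
    Nat.card {w : Lvl σ (k + 1) 0 // w.1.1 h = a} = q ^ (2 * k + 2) := by
  rw [← card_Lvl_fst σ H.card H.card_fld (k := k) 0 a ha]
  refine Nat.card_congr (((permE (Equiv.swap 0 h.1) (!h.2)).subtypeEquiv fun w => ?_).subtypeEquiv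
    fun w => ?_)
  · rw [qf_permE]
  · simp [Equiv.subtypeEquiv, permE, j0]

theorem nSing_succ (H : FieldData σ q) :
    nSing σ (k + 1) = (q - 1) * q ^ (2 * k + 2) + q * nSing σ k :=
  card_Lvl_succ σ H.card H.card_fld 0

variable {G : Type*} [Group G] {V : Type*} [AddCommGroup V] [Module ℂ V] [FiniteDimensional ℂ V]
  (H : FieldData σ q) {ψ : AddChar (Fld σ) ℂ} (hψ : ψ.IsPrimitive)
  (𝔉 : Fam σ k G) (ρ : Representation ℂ G V)

include H hψ

theorem sum_pr : ∑ w, pr σ ψ 𝔉 ρ w = 1 := by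
  classical
  rw [← sum_proj (resChar ρ 𝔉.P)]
  exact Fintype.sum_bijective (chi σ ψ) (chi_bijective σ H.moved hψ) _ _ fun _ => rfl

theorem pr_orth {v w : MS σ k} (h : v ≠ w) : pr σ ψ 𝔉 ρ v * pr σ ψ 𝔉 ρ w = 0 :=
  proj_orth _ fun e => h (chi_injective σ H.moved hψ e)

theorem sum_mu : ∑ w, mu σ ψ 𝔉 ρ w = finrank ℂ V := by
  apply Nat.cast_injective (R := ℂ)
  rw [Nat.cast_sum, Finset.sum_congr rfl fun w _ => (trace_pr σ ψ 𝔉 ρ w).symm, ← map_sum,
    sum_pr H hψ, LinearMap.trace_one]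

theorem trace_P (v : MS σ k) :
    LinearMap.trace ℂ V (ρ (𝔉.P v)) = ∑ w, chi σ ψ w v * (mu σ ψ 𝔉 ρ w : ℂ) := by
  rw [← resChar_apply, trace_map]
  exact (Fintype.sum_bijective (chi σ ψ) (chi_bijective σ H.moved hψ) _ _ fun _ => rfl).symm

theorem exists_mu {v : MS σ k} (h : ρ (𝔉.P v) ≠ 1) : ∃ w, 0 < mu σ ψ 𝔉 ρ w ∧ w ≠ 0 := by
  obtain ⟨χ, hχ, hm⟩ := exists_weight (resChar ρ 𝔉.P) h
  obtain ⟨w, rfl⟩ := (chi_bijective σ H.moved hψ).2 χ
  exact ⟨w, hm, fun h0 => hχ (by rw [h0, chi_zero])⟩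

omit H hψ

variable (ψ) in
/-- The non-zero weights are the singular vectors, each with multiplicity `m`. -/
def Exact (m : ℕ) : Prop :=
  ∀ w : MS σ k, w ≠ 0 → mu σ ψ 𝔉 ρ w = if qf σ w = 0 then m else 0

include H hψ

theorem level_bound (𝔉 : Fam σ (k + 1) G) {w : MS σ (k + 1)} (hw : w ≠ 0) :
    mu σ ψ 𝔉 ρ 0 + mu σ ψ 𝔉 ρ w * (Nat.card (Lvl σ (k + 1) (qf σ w)) - 1) ≤ finrank ℂ V := by
  classical
  set ν := qf σ w with hν
  let S : Finset (MS σ (k + 1)) := Finset.univ.filter fun v => qf σ v = ν ∧ v ≠ 0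
  have hS : Nat.card (Lvl σ (k + 1) ν) - 1 ≤ S.card := by
    have e : Nat.card (Lvl σ (k + 1) ν) = (Finset.univ.filter fun v : MS σ (k + 1) => qf σ v = ν).card := by
      rw [Nat.card_eq_fintype_card, Fintype.card_subtype]
    have e2 : S = (Finset.univ.filter fun v : MS σ (k + 1) => qf σ v = ν).erase 0 := by
      ext v; simp [S, and_comm]
    rw [e, e2]
    exact Finset.pred_card_le_card_erase
  have hconst : ∀ v ∈ S, mu σ ψ 𝔉 ρ v = mu σ ψ 𝔉 ρ w := fun v hv => by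
    obtain ⟨h1, h2⟩ := (Finset.mem_filter.1 hv).2
    exact (conn_of_qf σ H.moved H.nm_surj' h2 hw h1 _ (inv_mu σ ψ 𝔉 ρ (mu σ ψ 𝔉 ρ w))).2 rfl
  rw [← sum_mu H hψ 𝔉 ρ, ← Finset.add_sum_erase _ _ (Finset.mem_univ (0 : MS σ (k + 1)))]
  refine Nat.add_le_add_left ?_ _
  calc mu σ ψ 𝔉 ρ w * (Nat.card (Lvl σ (k + 1) ν) - 1) ≤ mu σ ψ 𝔉 ρ w * S.card :=
        Nat.mul_le_mul_left _ hS
    _ = ∑ v ∈ S, mu σ ψ 𝔉 ρ v := by
        rw [Finset.sum_congr rfl hconst, Finset.sum_const, smul_eq_mul, mul_comm]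
    _ ≤ _ := Finset.sum_le_sum_of_subset fun v hv =>
        Finset.mem_erase.2 ⟨(Finset.mem_filter.1 hv).2.2, Finset.mem_univ _⟩

/-- A weight of non-zero value, or exactly the singular ones. -/
theorem step_cases (𝔉 : Fam σ (k + 1) G) {v : MS σ (k + 1)} (h : ρ (𝔉.P v) ≠ 1) :
    (∃ w, w ≠ 0 ∧ qf σ w ≠ 0 ∧ 0 < mu σ ψ 𝔉 ρ w) ∨
      ∃ m w, 0 < m ∧ w ≠ 0 ∧ qf σ w = 0 ∧ mu σ ψ 𝔉 ρ w = m ∧ Exact ψ 𝔉 ρ m := by
  classical
  by_cases hns : ∃ w, w ≠ 0 ∧ qf σ w ≠ 0 ∧ 0 < mu σ ψ 𝔉 ρ w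
  · exact Or.inl hns
  push Not at hns
  obtain ⟨w0, h1, h2⟩ := exists_mu H hψ 𝔉 ρ h
  have hq0 : qf σ w0 = 0 := by
    by_contra hq
    have := hns w0 h2 hq
    omega
  refine Or.inr ⟨_, w0, h1, h2, hq0, rfl, fun w hw => ?_⟩
  split_ifs with hq
  · exact (conn_of_qf σ H.moved H.nm_surj' hw h2 (hq.trans hq0.symm) _
      (inv_mu σ ψ 𝔉 ρ (mu σ ψ 𝔉 ρ w0))).2 rfl
  · exact Nat.le_zero.1 (hns w hw hq)

variable {𝔉 ρ} {m : ℕ} (hE : Exact ψ 𝔉 ρ m)
include hE

theorem sum_exact (f : MS σ k → ℂ) :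
    ∑ w, f w * (mu σ ψ 𝔉 ρ w : ℂ) = f 0 * (mu σ ψ 𝔉 ρ 0 : ℂ) +
      (m : ℂ) * ((∑ w : Lvl σ k 0, f w.1) - f 0) := by
  classical
  have hm : ∀ w ∈ Finset.univ.erase (0 : MS σ k),
      f w * (mu σ ψ 𝔉 ρ w : ℂ) = if qf σ w = 0 then f w * (m : ℂ) else 0 := fun w hw => by
    rw [hE w (Finset.mem_erase.1 hw).1]
    split_ifs <;> simp
  have h0 : qf σ (0 : MS σ k) = 0 := Subtype.ext (by simp [qf])
  rw [← Finset.add_sum_erase _ _ (Finset.mem_univ (0 : MS σ k)), Finset.sum_congr rfl hm,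
    Finset.sum_erase_eq_sub (Finset.mem_univ _), if_pos h0, ← Finset.sum_filter,
    ← Finset.sum_subtype (Finset.univ.filter fun w : MS σ k => qf σ w = 0) (fun w => by simp) f,
    ← Finset.sum_mul]
  ring

theorem finrank_exact : (finrank ℂ V : ℤ) = mu σ ψ 𝔉 ρ 0 + m * ((nSing σ k : ℤ) - 1) := by
  have h := sum_exact H hψ hE (fun _ => 1)
  simp only [one_mul, Finset.sum_const, Finset.card_univ, nsmul_eq_mul, mul_one] at h
  rw [← Nat.cast_sum, sum_mu H hψ, ← Nat.card_eq_fintype_card] at h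
  exact_mod_cast h

omit hE

/-- The trace of a coordinate element. -/
theorem trace_coord {𝔉 : Fam σ (k + 1) G} (hE : Exact ψ 𝔉 ρ m) (h : Hx (k + 1)) {s : Fld σ}
    (hs : s ≠ 0) :
    (finrank ℂ V : ℂ) - LinearMap.trace ℂ V (ρ (𝔉.P (single σ h s))) = (m : ℂ) * (q : ℂ) ^ (2 * k + 3) := by
  classical
  have hn : (finrank ℂ V : ℂ) = ∑ w, (1 : ℂ) * (mu σ ψ 𝔉 ρ w : ℂ) := by
    simp [← Nat.cast_sum, sum_mu H hψ]
  rw [hn, trace_P H hψ, ← Finset.sum_sub_distrib, Finset.sum_congr rfl fun w _ => (sub_mul _ _ _).symm,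
    sum_exact H hψ hE]
  have hz : (1 : ℂ) - chi σ ψ (0 : MS σ (k + 1)) (single σ h s) = 0 := by
    rw [chi_apply, pair_single]; simp [AddChar.map_zero_eq_one]
  simp only [hz, zero_mul, zero_add, sub_zero]
  congr 1
  simp only [chi_apply, pair_single]
  rw [← Finset.sum_fiberwise Finset.univ (fun w : Lvl σ (k + 1) 0 => w.1.1 h)]
  have hterm : ∀ a : Fld σ, ∑ w ∈ Finset.univ.filter (fun w : Lvl σ (k + 1) 0 => w.1.1 h = a),
      ((1 : ℂ) - ψ (w.1.1 h * s)) = (q : ℂ) ^ (2 * k + 2) * (1 - ψ (a * s)) := fun a => by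
    rw [Finset.sum_congr rfl fun w hw => by rw [(Finset.mem_filter.1 hw).2], Finset.sum_const,
      nsmul_eq_mul]
    by_cases ha : a = 0
    · simp [ha, AddChar.map_zero_eq_one]
    · rw [← Fintype.card_subtype, ← Nat.card_eq_fintype_card, card_sing_coord H h a ha, Nat.cast_pow]
  rw [Finset.sum_congr rfl fun a _ => hterm a, ← Finset.mul_sum, Finset.sum_sub_distrib]
  have h5 : ∑ a : Fld σ, ψ (a * s) = 0 := by
    simpa [AddChar.mulShift_apply, mul_comm s] using AddChar.sum_eq_zero_of_ne_one (hψ hs)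
  rw [h5, sub_zero, Finset.sum_const, Finset.card_univ, ← Nat.card_eq_fintype_card, H.card_fld,
    nsmul_eq_mul, mul_one, ← pow_succ]

end CfsgLib.TwistESixDegree
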