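import Cfsg.Agent.TwistESixDegree.Elements
import Cfsg.Agent.TwistESixDegree.Trace

/-!
# Multiplicities of the weights of the centre

Two orbit elements outside the centre with two others shift a coordinate of the centre by all the values
of a non-degenerate trace pairing, so every weight of the centre which occurs has multiplicity at least
`q⁴`.
-/

set_option autoImplicit false
set_option linter.unusedSectionVars false

namespace CfsgLib.TwistESixDegree

open Cfsg.Lie CfsgLib.Chevalley CfsgLib.GraphTwist CfsgLib.RepBounds Module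
open scoped MatrixGroups

variable {K : Type*} [Field K] [Fintype K] (Φ : FieldTwist setupE6 K)

/-- An orbit element of the twisted group. -/
noncomputable def oG {r : Root chevE6} (hr : setupE6.σR r ≠ r) (t : K) : ↥Φ.tG :=
  ⟨Φ.oX r t, Φ.oX_mem_tG' setupE6_faithful _ fun h => absurd h hr⟩

/-- The additive family of an orbit. -/
noncomputable def oA {r : Root chevE6} (hr : setupE6.σR r ≠ r) (h : Nil r (setupE6.σR r)) :
    AddChar K ↥Φ.tG where
  toFun := oG Φ hr
  map_zero_eq_one' := Subtype.ext (by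
    show Φ.oX r 0 = 1
    rw [oX_two Φ hr, map_zero, mul_zero, show XE r (0 : K) = (1 : GL chevE6.Idx K) from X_zero _ _,
      show XE (setupE6.σR r) (0 : K) = (1 : GL chevE6.Idx K) from X_zero _ _, one_mul])
  map_add_eq_mul' u v := Subtype.ext (oX_add Φ hr h u v)

/-- The first shear root. -/
abbrev sh1 : Root chevE6 := r6 55

/-- The second shear root. -/
abbrev sh2 : Root chevE6 := r6 52

/-- The element moving the first. -/
abbrev mv1 : Root chevE6 := r6 49

/-- The element moving the second. -/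
abbrev mv2 : Root chevE6 := r6 54

theorem sh_ne : setupE6.σR sh1 ≠ sh1 ∧ setupE6.σR sh2 ≠ sh2 ∧ setupE6.σR mv1 ≠ mv1 ∧
    setupE6.σR mv2 ≠ mv2 :=
  ⟨(shear_nil.1 _ (by simp)).1, (shear_nil.1 _ (by simp)).1, (shear_nil.1 _ (by simp)).1,
    (shear_nil.1 _ (by simp)).1⟩

theorem commute_centre {r : Root chevE6} (hmem : r ∈ [r6 55, r6 52, r6 49, r6 54]) (u : K)
    (v : MS Φ.f 3) : Commute (Φ.oX r u) (PY geo1_ok.ab (geo1.coord Φ v)) := by
  classical
  obtain ⟨hr, -, h⟩ := shear_nil.1 r hmem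
  rw [← Finset.univ_sum_single (geo1.coord Φ v)]
  generalize (Finset.univ : Finset (Hx 3 ⊕ Bool)) = s
  induction s using Finset.induction with
  | empty => rw [Finset.sum_empty, AddChar.map_zero_eq_one]; exact Commute.one_right _
  | insert i s hi ih =>
    rw [Finset.sum_insert hi, AddChar.map_add_eq_mul, PY_single geo1_ok.ab]
    exact (oX_commute Φ hr (h i).1 (h i).2 u _).mul_right ih

/-- The centre with the shear roots. -/
noncomputable def shearFam : AddChar (MS Φ.f 3 × K × K) ↥Φ.tG where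
  toFun p := (GeoData.fam Φ geo1_ok).P p.1 * oA Φ sh_ne.1 (shear_nil.1 _ (by simp)).2.1 p.2.1 *
    oA Φ sh_ne.2.1 (shear_nil.1 _ (by simp)).2.1 p.2.2
  map_zero_eq_one' := by
    simp only [Prod.fst_zero, Prod.snd_zero, AddChar.map_zero_eq_one, one_mul]
  map_add_eq_mul' p p' := by
    set P := (GeoData.fam Φ geo1_ok).P
    set A := oA Φ sh_ne.1 (shear_nil.1 _ (by simp)).2.1
    set B := oA Φ sh_ne.2.1 (shear_nil.1 _ (by simp)).2.1
    have cA : ∀ a v, Commute (A a) (P v) := fun a v =>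
      Subtype.ext (commute_centre Φ (by simp) a v).eq
    have cB : ∀ b v, Commute (B b) (P v) := fun b v =>
      Subtype.ext (commute_centre Φ (by simp) b v).eq
    have cAB : ∀ a b, Commute (A a) (B b) := fun a b =>
      Subtype.ext (oX_commute_two Φ sh_ne.1 sh_ne.2.1 shear_nil.2.1 a b).eq
    simp only [Prod.fst_add, Prod.snd_add, AddChar.map_add_eq_mul]
    calc P p.1 * P p'.1 * (A p.2.1 * A p'.2.1) * (B p.2.2 * B p'.2.2)
        = P p.1 * (P p'.1 * A p.2.1) * (A p'.2.1 * B p.2.2) * B p'.2.2 := by simp only [mul_assoc]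
      _ = P p.1 * (A p.2.1 * P p'.1) * (B p.2.2 * A p'.2.1) * B p'.2.2 := by
          rw [(cA _ _).eq, (cAB _ _).eq]
      _ = P p.1 * A p.2.1 * (P p'.1 * B p.2.2) * A p'.2.1 * B p'.2.2 := by simp only [mul_assoc]
      _ = _ := by rw [← (cB _ _).eq]; simp only [mul_assoc]

/-- The shift of the coordinates. -/
def shiftE (u : K × K) : (MS Φ.f 3 × K × K) ≃+ (MS Φ.f 3 × K × K) where
  toFun p := (p.1 + single Φ.f j0 (tr Φ.f (u.1 * Φ.f p.2.1) + tr Φ.f (u.2 * Φ.f p.2.2)), p.2)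
  invFun p := (p.1 - single Φ.f j0 (tr Φ.f (u.1 * Φ.f p.2.1) + tr Φ.f (u.2 * Φ.f p.2.2)), p.2)
  left_inv p := Prod.ext (add_sub_cancel_right _ _) rfl
  right_inv p := Prod.ext (sub_add_cancel _ _) rfl
  map_add' p p' := by
    refine Prod.ext ?_ rfl
    have e : ∀ x y : Fld Φ.f, single Φ.f (k := 3) j0 (x + y) = single Φ.f j0 x + single Φ.f j0 y :=
      fun x y => Prod.ext (funext fun i => by
        by_cases hi : i = j0
        · subst hi; simp [single]
        · simp [single, hi]) (by simp [single])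
    have et : ∀ x y : K, tr Φ.f (x + y) = tr Φ.f x + tr Φ.f y := fun x y => Subtype.ext (by
      simp only [coe_tr, map_add, Subfield.coe_add]; ring)
    simp only [Prod.fst_add, Prod.snd_add, map_add, mul_add, et]
    rw [add_add_add_comm (tr Φ.f _), e]
    abel

theorem centre_single (s : Fld Φ.f) :
    ((GeoData.fam Φ geo1_ok).P (single Φ.f j0 s) : GL chevE6.Idx K) = XE (r6 71) (s : K) := by
  rw [GeoData.fam_single_val Φ geo1_ok]
  simp [geo1, mkGeo, hIx, j0]

theorem shift_conj (u : K × K) (p : MS Φ.f 3 × K × K) :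
    oG Φ sh_ne.2.2.1 u.1 * oG Φ sh_ne.2.2.2 u.2 * shearFam Φ p =
      shearFam Φ (shiftE Φ u p) * (oG Φ sh_ne.2.2.1 u.1 * oG Φ sh_ne.2.2.2 u.2) := by
  set P := (GeoData.fam Φ geo1_ok).P
  set A := oA Φ sh_ne.1 (shear_nil.1 _ (by simp)).2.1 p.2.1
  set B := oA Φ sh_ne.2.1 (shear_nil.1 _ (by simp)).2.1 p.2.2
  set s := oG Φ sh_ne.2.2.1 u.1
  set s' := oG Φ sh_ne.2.2.2 u.2
  set z := P (single Φ.f j0 (tr Φ.f (u.1 * Φ.f p.2.1)))
  set z' := P (single Φ.f j0 (tr Φ.f (u.2 * Φ.f p.2.2)))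
  have cs : ∀ v, Commute s (P v) := fun v => Subtype.ext (commute_centre Φ (by simp) _ v).eq
  have cs' : ∀ v, Commute s' (P v) := fun v => Subtype.ext (commute_centre Φ (by simp) _ v).eq
  have cA : ∀ v, Commute A (P v) := fun v => Subtype.ext (commute_centre Φ (by simp) _ v).eq
  have h1 : s * A = z * (A * s) := Subtype.ext (by
    show Φ.oX mv1 u.1 * Φ.oX sh1 p.2.1 = (z : GL chevE6.Idx K) * (Φ.oX sh1 p.2.1 * Φ.oX mv1 u.1)
    rw [oX_pair Φ pair_shear1, centre_single, coe_tr, map_mul, fTwist_two])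
  have h2 : s' * B = z' * (B * s') := Subtype.ext (by
    show Φ.oX mv2 u.2 * Φ.oX sh2 p.2.2 = (z' : GL chevE6.Idx K) * (Φ.oX sh2 p.2.2 * Φ.oX mv2 u.2)
    rw [oX_pair Φ pair_shear2, centre_single, coe_tr, map_mul, fTwist_two])
  have h3 : Commute s' A := Subtype.ext (oX_commute_two Φ sh_ne.2.2.2 sh_ne.1 shear_nil.2.2.2 _ _).eq
  have h4 : Commute s B := Subtype.ext (oX_commute_two Φ sh_ne.2.2.1 sh_ne.2.1 shear_nil.2.2.1 _ _).eq
  have hp : shearFam Φ (shiftE Φ u p) = P p.1 * (z * z') * A * B := by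
    show P (p.1 + single Φ.f j0 _) * A * B = _
    rw [AddChar.map_add_eq_mul]
    congr 3
    rw [← AddChar.map_add_eq_mul]
    congr 1
    refine Prod.ext (funext fun i => ?_) (by simp [single])
    by_cases hi : i = j0
    · subst hi; simp [single]
    · simp [single, hi]
  rw [hp, show shearFam Φ p = P p.1 * A * B from rfl]
  calc s * s' * (P p.1 * A * B) = s * (P p.1 * s') * (A * B) := by
        rw [← (cs' _).eq]; simp only [mul_assoc]
    _ = s * P p.1 * (s' * A) * B := by simp only [mul_assoc]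
    _ = P p.1 * s * (A * s') * B := by rw [(cs _).eq, h3.eq]
    _ = P p.1 * (s * A) * (s' * B) := by simp only [mul_assoc]
    _ = P p.1 * (z * (A * s)) * (z' * (B * s')) := by rw [h1, h2]
    _ = P p.1 * z * A * (s * z') * (B * s') := by simp only [mul_assoc]
    _ = P p.1 * z * (A * z') * (s * B) * s' := by rw [(cs _).eq]; simp only [z', mul_assoc]
    _ = P p.1 * z * (z' * A) * (B * s) * s' := by rw [(cA _).eq, h4.eq]
    _ = _ := by simp only [mul_assoc]

variable {q : ℕ} (H : FieldData Φ.f q) {ψ : AddChar (Fld Φ.f) ℂ} (hψ : ψ.IsPrimitive)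
  {V : Type*} [AddCommGroup V] [Module ℂ V] [FiniteDimensional ℂ V]
  (ρ : Representation ℂ ↥Φ.tG V)
include H hψ

/-- The weights which occur have multiplicity at least `q⁴`. -/
theorem mu_ge {w : MS Φ.f 3} (hw : w ≠ 0)
    (hpos : 0 < mu Φ.f ψ (GeoData.fam Φ geo1_ok) ρ w) :
    q ^ 4 ≤ mu Φ.f ψ (GeoData.fam Φ geo1_ok) ρ w := by
  classical
  set 𝔉 := GeoData.fam Φ geo1_ok
  obtain ⟨w', hc, hj⟩ := exists_ne_j Φ.f w hw H.moved
  have heq : mu Φ.f ψ 𝔉 ρ w' = mu Φ.f ψ 𝔉 ρ w :=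
    (hc _ (inv_mu Φ.f ψ 𝔉 ρ (mu Φ.f ψ 𝔉 ρ w))).1 rfl
  rw [← heq] at hpos ⊢
  let ι : MS Φ.f 3 →+ MS Φ.f 3 × K × K := AddMonoidHom.inl _ _
  set α := resChar ρ (shearFam Φ)
  have hα : α.compAddMonoidHom ι = resChar ρ 𝔉.P := DFunLike.ext _ _ fun v => by
    show ρ (shearFam Φ (v, 0, 0)) = ρ (𝔉.P v)
    congr 1
    show 𝔉.P v * oA Φ _ _ 0 * oA Φ _ _ 0 = _
    rw [AddChar.map_zero_eq_one, AddChar.map_zero_eq_one, mul_one, mul_one]
  set S := Finset.univ.filter fun χ : AddChar (MS Φ.f 3 × K × K) ℂ =>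
    χ.compAddMonoidHom ι = chi Φ.f ψ w'
  have hsum : ∑ χ ∈ S, rnk (proj α χ) = mu Φ.f ψ 𝔉 ρ w' := by
    refine rnk_sum S _ (pr Φ.f ψ 𝔉 ρ w') (fun χ _ => proj_mul_proj _ _)
      (pr_idem Φ.f ψ 𝔉 ρ w') ?_
    rw [pr, ← hα, proj_push]
  rw [← hsum] at hpos ⊢
  obtain ⟨χ0, hχ0, hpos0⟩ := Finset.exists_ne_zero_of_sum_ne_zero hpos.ne'
  have hχw : ∀ v, χ0 (v, 0, 0) = chi Φ.f ψ w' v := fun v =>
    DFunLike.congr_fun (Finset.mem_filter.1 hχ0).2 v
  let F : K × K → AddChar (MS Φ.f 3 × K × K) ℂ := fun u =>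
    χ0.compAddMonoidHom (shiftE Φ u).toAddMonoidHom
  have hF : ∀ u p, F u p = χ0 p *
      ψ (w'.1 j0 * (tr Φ.f (u.1 * Φ.f p.2.1) + tr Φ.f (u.2 * Φ.f p.2.2))) := fun u p => by
    show χ0 (shiftE Φ u p) = _
    rw [show shiftE Φ u p = p +
      (single Φ.f j0 (tr Φ.f (u.1 * Φ.f p.2.1) + tr Φ.f (u.2 * Φ.f p.2.2)), 0, 0) from
      Prod.ext rfl (Prod.ext (add_zero _).symm (add_zero _).symm), AddChar.map_add_eq_mul, hχw,
      chi_apply, pair_single]
  have hmem : ∀ u, F u ∈ S := fun u => Finset.mem_filter.2 ⟨Finset.mem_univ _,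
    DFunLike.ext _ _ fun v => by
      rw [AddChar.compAddMonoidHom_apply, hF]
      have h0 : tr Φ.f (0 : K) = 0 := Subtype.ext (by simp)
      simp [ι, h0]
      exact hχw v⟩
  have hval : ∀ u, rnk (proj α (F u)) = rnk (proj α χ0) := fun u => by
    refine mult_comp_conj ρ (shearFam Φ) (oG Φ sh_ne.2.2.1 u.1 * oG Φ sh_ne.2.2.2 u.2) (shiftE Φ u)
      (fun p => ?_) χ0
    rw [shift_conj, mul_inv_cancel_right]
  have hinj : Function.Injective F := by
    intro u u' huv
    have key : ∀ d d' : K, (∀ a, ψ (w'.1 j0 * tr Φ.f (d * Φ.f a)) = ψ (w'.1 j0 * tr Φ.f (d' * Φ.f a))) →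
        d = d' := fun d d' h => by
      by_contra hne
      obtain ⟨s, hs⟩ : ∃ s, ψ s ≠ 1 := by
        by_contra hc
        push Not at hc
        exact hψ one_ne_zero (DFunLike.ext _ _ fun x => by simpa using hc x)
      obtain ⟨x, hx⟩ := tr_surj Φ.f H.moved (s / w'.1 j0)
      have hd : d - d' ≠ 0 := sub_ne_zero.2 hne
      have e : tr Φ.f (d * Φ.f (Φ.f (x / (d - d')))) = tr Φ.f (d' * Φ.f (Φ.f (x / (d - d')))) + tr Φ.f x := by
        rw [fTwist_two]
        have e' : d * (x / (d - d')) = d' * (x / (d - d')) + x := by field_simp; ring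
        apply Subtype.ext
        rw [coe_tr, e', Subfield.coe_add, coe_tr, coe_tr, map_add]
        ring
      have h1 := h (Φ.f (x / (d - d')))
      rw [e, mul_add, AddChar.map_add_eq_mul, hx, mul_div_cancel₀ _ hj] at h1
      refine hs ((mul_eq_left₀ ?_).1 h1)
      intro h2
      have h3 := AddChar.map_add_eq_mul ψ (w'.1 j0 * tr Φ.f (d' * Φ.f (Φ.f (x / (d - d')))))
        (-(w'.1 j0 * tr Φ.f (d' * Φ.f (Φ.f (x / (d - d'))))))
      rw [add_neg_cancel, AddChar.map_zero_eq_one, h2, zero_mul] at h3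
      exact one_ne_zero h3
    have h0 : tr Φ.f (0 : K) = 0 := Subtype.ext (by simp)
    have hne : ∀ p, χ0 p ≠ 0 := fun p h2 => by
      have h3 := AddChar.map_add_eq_mul χ0 p (-p)
      rw [add_neg_cancel, AddChar.map_zero_eq_one, h2, zero_mul] at h3
      exact one_ne_zero h3
    refine Prod.ext (key _ _ fun a => ?_) (key _ _ fun a => ?_)
    · have h := DFunLike.congr_fun huv (0, a, 0)
      rw [hF, hF] at h
      simpa [h0] using mul_left_cancel₀ (hne _) h
    · have h := DFunLike.congr_fun huv (0, 0, a)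
      rw [hF, hF] at h
      simpa [h0] using mul_left_cancel₀ (hne _) h
  calc q ^ 4 = (Finset.univ.image F).card * 1 := by
        rw [Finset.card_image_of_injective _ hinj, mul_one, Finset.card_univ, Fintype.card_prod,
          ← Nat.card_eq_fintype_card, H.card]
        ring
    _ ≤ ∑ χ ∈ Finset.univ.image F, rnk (proj α χ) := by
        rw [← smul_eq_mul, ← Finset.sum_const]
        refine Finset.sum_le_sum fun χ hχ => ?_
        obtain ⟨u, -, rfl⟩ := Finset.mem_image.1 hχ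
        rw [hval]
        exact Nat.one_le_iff_ne_zero.2 hpos0
    _ ≤ _ := Finset.sum_le_sum_of_subset fun χ hχ => by
        obtain ⟨u, -, rfl⟩ := Finset.mem_image.1 hχ
        exact hmem u

end CfsgLib.TwistESixDegree
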