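import Cfsg.Agent.TwistESixDegree.Geometry

/-!
# The three families of minus type in `²E₆`

The first is the centre of the radical of the orbit of end nodes; the roots of each later one are among the
moves of the one before.
-/

set_option autoImplicit false

namespace CfsgLib.TwistESixDegree

open Cfsg.Lie CfsgLib.Chevalley CfsgLib.GraphTwist

/-- A root by number. -/
def r6 (i : ℕ) : Root chevE6 := ⟨i % chevE6.nroots, Nat.mod_lt _ (by decide)⟩

/-- The number of a coordinate. -/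
def hIx {k : ℕ} (h : Hx k) : ℕ := 2 * (h.1 : ℕ) + if h.2 then 0 else 1

/-- An entry of a list of roots with constants. -/
def rEntry (l : List (ℕ × ℤ)) (i : ℕ) : Root chevE6 × ℤ :=
  (r6 (l.getD i (0, 1)).1, (l.getD i (0, 1)).2)

/-- A table of a family from lists. -/
def mkGeo (k : ℕ) (Yl : List ℕ) (c c' : ℕ) (sgl : List ℤ) (lrl : List (List (ℕ × ℤ)))
    (srl : List (ℕ × ℤ)) : GeoData k where
  Y := Sum.elim (fun h => r6 (Yl.getD (hIx h) 0)) fun b => r6 (if b then c' else c)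
  sg h := sgl.getD (hIx h) 1
  lr g h := rEntry (lrl.getD (hIx g) []) (hIx h)
  sr g := rEntry srl (hIx g)

/-- The centre of the radical. -/
def geo1 : GeoData 3 :=
  mkGeo 3 [71, 60, 70, 63, 69, 65] 66 68 [1, -1, 1, 1, 1, -1]
    [[(0, 1), (0, 1), (46, 1), (53, 1), (47, -1), (51, 1)],
      [(0, 1), (0, 1), (18, -1), (25, -1), (20, -1), (24, 1)],
      [(25, 1), (53, -1), (0, 1), (0, 1), (39, 1), (44, 1)],
      [(18, 1), (46, -1), (0, 1), (0, 1), (27, -1), (32, -1)],
      [(24, -1), (51, -1), (32, 1), (44, -1), (0, 1), (0, 1)],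
      [(20, 1), (47, 1), (27, 1), (39, -1), (0, 1), (0, 1)]]
    [(48, 1), (21, -1), (40, -1), (28, -1), (37, 1), (29, -1)]

/-- The family inside the moves of the first. -/
def geo2 : GeoData 2 :=
  mkGeo 2 [53, 46, 51, 47] 48 50 [1, 1, 1, -1]
    [[(0, 1), (0, 1), (39, 1), (44, 1)],
      [(0, 1), (0, 1), (27, -1), (32, -1)],
      [(32, 1), (44, -1), (0, 1), (0, 1)],
      [(27, 1), (39, -1), (0, 1), (0, 1)]]
    [(40, -1), (28, -1), (37, 1), (29, -1)]

/-- The family inside the moves of the second. -/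
def geo3 : GeoData 1 :=
  mkGeo 1 [44, 39] 40 43 [1, 1] [] [(37, -1), (29, 1)]

theorem geo1_ok : geo1.Ok :=
  ⟨by decide +kernel, by decide +kernel, by decide +kernel, by decide +kernel, by decide +kernel,
    by decide +kernel⟩

theorem geo2_ok : geo2.Ok :=
  ⟨by decide +kernel, by decide +kernel, by decide +kernel, by decide +kernel, by decide +kernel,
    by decide +kernel⟩

theorem geo3_ok : geo3.Ok :=
  ⟨by decide +kernel, by decide +kernel, by decide +kernel, by decide +kernel, by decide +kernel,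
    by decide +kernel⟩

/-- Two roots whose elements commute. -/
abbrev Nil (p s : Root chevE6) : Prop := s ≠ p ∧ s ≠ p.rev ∧ chevE6.commTerms p s = []

/-- The pairs `(γ, -γ)` exchanging two roots. -/
def AdjOk (g g' s m : Root chevE6) (c : ℤ) : Prop :=
  (s ≠ g ∧ s ≠ g.rev ∧ chevE6.commTerms g s = [((m : ℕ), c, 1, 1)]) ∧
    (m ≠ g' ∧ m ≠ g'.rev ∧ chevE6.commTerms g' m = [((s : ℕ), c, 1, 1)]) ∧
    Nil g' s ∧ Nil g m ∧ Nil s m ∧ Nil m g ∧ Nil m s ∧ Nil s g'

instance (g g' s m : Root chevE6) (c : ℤ) : Decidable (AdjOk g g' s m c) := by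
  unfold AdjOk; infer_instance

theorem adj1 : AdjOk (r6 60) (r6 11) (r6 53) (r6 70) (-1) := by decide +kernel

theorem adj2 : AdjOk (r6 46) (r6 25) (r6 44) (r6 51) 1 := by decide +kernel

/-- The two-element orbits whose commutator is a fixed root. -/
def PairOk (r s k : Root chevE6) (c1 c2 : ℤ) : Prop :=
  setupE6.σR r ≠ r ∧ setupE6.σR s ≠ s ∧
    (setupE6.σR s ≠ r ∧ setupE6.σR s ≠ r.rev ∧
      chevE6.commTerms r (setupE6.σR s) = [((k : ℕ), c1, 1, 1)]) ∧
    (s ≠ setupE6.σR r ∧ s ≠ (setupE6.σR r).rev ∧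
      chevE6.commTerms (setupE6.σR r) s = [((k : ℕ), c2, 1, 1)]) ∧
    Nil r s ∧ Nil (setupE6.σR r) (setupE6.σR s) ∧ Nil k r ∧ Nil k s ∧ Nil k (setupE6.σR r) ∧
      Nil k (setupE6.σR s) ∧
    c1 * setupE6.cfg.S.sgn s = 1 ∧ c2 * setupE6.cfg.S.sgn r = 1

instance (r s k : Root chevE6) (c1 c2 : ℤ) : Decidable (PairOk r s k c1 c2) := by
  unfold PairOk; infer_instance

theorem pair_move : PairOk (r6 48) (r6 40) (r6 53) (-1) 1 := by decide +kernel

theorem pair_shear1 : PairOk (r6 49) (r6 55) (r6 71) (-1) (-1) := by decide +kernel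

theorem pair_shear2 : PairOk (r6 54) (r6 52) (r6 71) (-1) (-1) := by decide +kernel

set_option synthInstance.maxSize 1024 in
/-- The roots of the shear commute with each other, and with the centre. -/
theorem shear_nil : (∀ r ∈ [r6 55, r6 52, r6 49, r6 54], setupE6.σR r ≠ r ∧
      Nil r (setupE6.σR r) ∧ ∀ i, Nil r (geo1.Y i) ∧ Nil (setupE6.σR r) (geo1.Y i)) ∧
    (Nil (r6 55) (r6 52) ∧ Nil (r6 55) (setupE6.σR (r6 52)) ∧ Nil (setupE6.σR (r6 55)) (r6 52) ∧
      Nil (setupE6.σR (r6 55)) (setupE6.σR (r6 52))) ∧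
    (Nil (r6 49) (r6 52) ∧ Nil (r6 49) (setupE6.σR (r6 52)) ∧ Nil (setupE6.σR (r6 49)) (r6 52) ∧
      Nil (setupE6.σR (r6 49)) (setupE6.σR (r6 52))) ∧
    (Nil (r6 54) (r6 55) ∧ Nil (r6 54) (setupE6.σR (r6 55)) ∧ Nil (setupE6.σR (r6 54)) (r6 55) ∧
      Nil (setupE6.σR (r6 54)) (setupE6.σR (r6 55))) := by decide +kernel

end CfsgLib.TwistESixDegree
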